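import Cfsg.Agent.Lib.KnownB.Fi22Double.Sign
import Cfsg.Agent.Lib.KnownB.U62Thompson.Main
import Cfsg.Prelude.Def_FischerSpaces
import Cfsg.Prelude.Def_SporadicB

/-!
A set of 3-transpositions in a group with an involution whose centraliser is a double cover of
`PSU₆(2)` is the class of that involution; it meets a Sylow subgroup in a generating set of the
Thompson subgroup.
-/

set_option autoImplicit false
set_option maxRecDepth 100000

noncomputable section

namespace CfsgLib.KnownB.Fi22Double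

open Matrix CfsgLib.Classical CfsgLib.Classical.Unitary CfsgLib.Spor CfsgLib.MultSU CfsgLib.KnownB.U62Mult
  CfsgLib.KnownB.U62Thompson

universe w z

/-- a root involution, a row of its table and a member of a class it does not fix -/
def moveT (c : ℕ) (b : Bool) : ℕ × ℕ × ℕ :=
  if b then [(1, 0, 3), (0, 0, 3), (1, 0, 3)].getD c (0, 0, 0)
  else [(0, 0, 29), (0, 1, 7), (0, 0, 15)].getD c (0, 0, 0)

/-- the class of the conjugate of the involution of a row -/
def moveOK (c : ℕ) (b : Bool) : Bool :=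
  let q := moveT c b
  let k := ((repT.getD q.1 []).getD q.2.1 (0, 0, 0)).2.2
  Nat.blt q.1 27 && Nat.blt q.2.1 2 && Nat.blt q.2.2 2048 && Nat.blt k 2048 &&
    (List.range 5).any (fun i => (if b then Nat.blt i 2 else Nat.blt 1 i && Nat.blt i 4) &&
      (orbBits c i).testBit (canZ (zOf c) k) && (orbBits c i).testBit (canZ (zOf c) q.2.2)) &&
    !Nat.beq (canZ (zOf c) (dT (invT.getD q.1 0) q.2.2)) 0

theorem move_ok : ((List.range 3).all fun c => moveOK c true && moveOK c false) = true := by decide +kernel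

theorem span_ok : ((List.range 3).all fun c => (List.range 11).all fun i =>
    (pts c).any (Nat.beq (canZ (zOf c) (Nat.xor (2 ^ i) (dOf c))))) = true := by decide +kernel

variable {F : Type} [Field F] {e : QField →+* F} {σ : F →+* F} [Finite F] {hF : Nat.card F = 2 ^ 2}
  {h : UFrob σ 2} {H : Type w} [Group H] [Finite H] {τ : H →* Cfsg.PSU 6 F 2} {δ : H} {c : ℕ} {E : ℕ → H}
  {X : Type z} [Group X] [Finite X] {ι : H →* X} {d : X}

theorem pts_pair {c : ℕ} (hc : c < 3) : ∃ a ∈ pts c, ∃ b ∈ pts c, a ≠ b := by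
  obtain ⟨hy, -, -, hlen, -⟩ := yPt_spec hc
  by_contra hno
  push Not at hno
  have h1 : (pts c).length ≤ 1 := by
    rw [← List.toFinset_card_of_nodup (l := pts c) (List.nodup_range.filter _)]
    exact Finset.card_le_one.2 fun u hu v hv => hno u (List.mem_toFinset.1 hu) v (List.mem_toFinset.1 hv)
  omega

/-- A set of 3-transpositions closed under conjugation meets the plane subgroup in points only. -/
theorem Ctx.mem_points (C : Ctx e hF h τ δ c E ι d) {D : Set X} (hT : Cfsg.IsThreeTranspositionSet D)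
    (hD : ∀ g : X, ∀ x ∈ D, g * x * g⁻¹ ∈ D) {x : X} (hx : x ∈ D) (hxA : x ∈ C.A0) : C.IsPt x := by
  obtain ⟨m, hm, hmc, rfl⟩ := C.mem_A0.1 hxA
  obtain ⟨P, hP⟩ : ∃ P : ℕ → Prop, ∀ m, P m = (ι (E m) ∈ D) := ⟨_, fun _ => rfl⟩
  have hDc : ∀ {g y}, g * y * g⁻¹ ∈ D ↔ y ∈ D := fun {g y} => ⟨fun h1 => by
    simpa [mul_assoc] using hD g⁻¹ _ h1, hD g y⟩
  obtain ⟨hOrb, hCov, -, -, -⟩ := orbit_facts C.M.lt
  have hcan : ∀ m, P (canZ (zOf c) m) ↔ P m := fun m => by rw [hP, hP, C.M.can]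
  have hinv : ∀ g < 7, ∀ m, P (selX (genVec.getD g []) m) ↔ P m := fun g hg m => by
    obtain ⟨U, hU⟩ := C.M.surj (cls (gW e hF h (gWd g)))
    rw [hP, hP, ← C.M.conj _ _ (actOK_gen hg) U hU m, map_mul, map_mul, map_inv]
    exact hDc
  have horb : ∀ i < 5, ∀ m, (orbBits c i).testBit m = true → (P m ↔ P (orbRoot c i)) := by
    intro i hi
    have h1 := List.all_eq_true.1 hOrb i (List.mem_range.2 hi)
    simp only [Bool.and_eq_true] at h1
    refine growOK_spec hcan hinv _ _ _ h1.1 fun k hk => ?_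
    rw [Nat.one_shiftLeft, Nat.testBit_two_pow, decide_eq_true_eq] at hk
    rw [← hk]
    rfl
  have hdlt := (zOf_pos C.M.lt).2.2.1
  -- the classes fuse in pairs
  have h01 : P (orbRoot c 0) ↔ P (orbRoot c 1) := by
    obtain ⟨a, ha, b, hb, hab⟩ := pts_pair C.M.lt
    obtain ⟨n, -, hnd, hnp⟩ := C.to_pair (C.pt_iff.2 (Or.inr ⟨a, ha, rfl⟩))
      (C.pt_iff.2 (Or.inr ⟨b, hb, rfl⟩)) (fun r => hab (C.pts_inj ha hb r)) ha
    rw [← horb 0 (by norm_num) _ (pts_spec C.M.lt ha).2.2.2.1,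
      ← horb 1 (by norm_num) _ ((pts_spec C.M.lt hb).2.2.2.2 a ha (Ne.symm hab)).1, hcan, hcan, hP, hP, ← C.M.mul,
      ← C.M.mul, map_mul, map_mul, C.d_eq, ← hDc (g := n) (y := ι (E a) * d),
      show n * (ι (E a) * d) * n⁻¹ = n * ι (E a) * n⁻¹ * (n * d * n⁻¹) by group, hnp, hnd]
  have h23 : P (orbRoot c 2) ↔ P (orbRoot c 3) := by
    have hr := (pts_facts C.M.lt).2.1
    simp only [triCheck, Bool.and_eq_true, List.any_eq_true, Nat.beq_eq, Bool.not_eq_true',
      ← Bool.not_eq_true] at hr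
    obtain ⟨⟨⟨⟨⟨⟨⟨a, ha, ea⟩, b, hb, eb⟩, d3, hd3, ed⟩, hab⟩, had⟩, hbd⟩, hroot⟩ := hr
    rw [ea, eb] at hab; rw [ea, ed] at had; rw [eb, ed] at hbd; rw [ea, eb, ed] at hroot
    obtain ⟨n, hn, hna⟩ := C.to_pt (C.pt_iff.2 (Or.inr ⟨a, ha, rfl⟩))
    have hother : ∀ {p}, p ∈ pts c → a ≠ p → ∃ p' ∈ pts c, n⁻¹ * ι (E p) * n = ι (E p') := by
      intro p hp hap
      have hpt : C.IsPt (n⁻¹ * ι (E p) * n) := by
        simpa using C.pt_conj (inv_mem hn) (C.pt_iff.2 (Or.inr ⟨p, hp, rfl⟩))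
      rcases C.pt_iff.1 hpt with r | hr
      · refine absurd (C.pts_inj ha hp ?_) hap
        calc ι (E a) = n * d * n⁻¹ := hna.symm
          _ = n * (n⁻¹ * ι (E p) * n) * n⁻¹ := by rw [r]
          _ = ι (E p) := by group
      · exact hr
    obtain ⟨b', hb', heb⟩ := hother hb hab
    obtain ⟨d3', hd3', hed⟩ := hother hd3 had
    have hne : b' ≠ d3' := fun r => hbd (C.pts_inj hb hd3 (by
      have h3 := heb.trans ((congrArg (fun k => ι (E k)) r).trans hed.symm)
      exact mul_left_cancel (mul_right_cancel h3)))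
    rw [← hroot, hcan, ← horb 3 (by norm_num) _ ((pts_spec C.M.lt hb').2.2.2.2 d3' hd3' hne).2, hcan, hP, hP,
      ← C.M.mul, ← C.M.mul, map_mul, map_mul, C.d_eq]
    rw [show Nat.xor (Nat.xor a b) d3 = a ^^^ b ^^^ d3 from rfl, ← C.M.mul, ← C.M.mul, map_mul, map_mul,
      ← hDc (g := n⁻¹), show n⁻¹ * (ι (E a) * ι (E b) * ι (E d3)) * n⁻¹⁻¹ =
      n⁻¹ * ι (E a) * n * (n⁻¹ * ι (E b) * n) * (n⁻¹ * ι (E d3) * n) by group, heb, hed,
      show n⁻¹ * ι (E a) * n = d by rw [← hna]; group]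
  -- a product of two or three points is no member
  have hno : ∀ b : Bool, ∀ i < 5, (if b then i < 2 else 1 < i ∧ i < 4) → ¬ P (orbRoot c i) := by
    intro b i hi hib hp
    have hmv : moveOK c b = true := by
      have h1 := List.all_eq_true.1 move_ok c (List.mem_range.2 C.M.lt)
      simp only [Bool.and_eq_true] at h1
      cases b
      · exact h1.2
      · exact h1.1
    simp only [moveOK, Bool.and_eq_true, Nat.blt_eq, List.any_eq_true, List.mem_range, Bool.not_eq_true',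
      ← Bool.not_eq_true, Nat.beq_eq] at hmv
    obtain ⟨⟨⟨⟨⟨h27, hj⟩, hm0⟩, hk⟩, i', hi', ⟨hb', hbk⟩, hbm⟩, hne⟩ := hmv
    generalize hq : moveT c b = q at h27 hj hm0 hk hbk hbm hne
    have hpi : P (orbRoot c i') := by
      cases b
      · simp only [Bool.false_eq_true, if_false] at hib
        simp only [Bool.false_eq_true, if_false, Bool.and_eq_true, Nat.blt_eq] at hb'
        obtain rfl | rfl : i = 2 ∨ i = 3 := by omega
        all_goals obtain rfl | rfl : i' = 2 ∨ i' = 3 := by omega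
        exacts [hp, h23.1 hp, h23.2 hp, hp]
      · simp only [if_true] at hib
        simp only [if_true, Nat.blt_eq] at hb'
        obtain rfl | rfl : i = 0 ∨ i = 1 := by omega
        all_goals obtain rfl | rfl : i' = 0 ∨ i' = 1 := by omega
        exacts [hp, h01.1 hp, h01.2 hp, hp]
    have hi5 : i' < 5 := hi'
    have hPk := (hcan _).1 ((horb _ hi5 _ hbk).2 hpi)
    have hPm := (hcan _).1 ((horb _ hi5 _ hbm).2 hpi)
    have hr := List.all_eq_true.1 red_ok q.1 (List.mem_range.2 h27)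
    simp only [Bool.and_eq_true, redOK, repOK, List.all_eq_true, Nat.blt_eq, Nat.beq_eq] at hr
    have hmem : (repT.getD q.1 []).getD q.2.1 (0, 0, 0) ∈ repT.getD q.1 [] := by
      rw [List.getD_eq_getElem _ _ (show q.2.1 < (repT.getD q.1 []).length by rw [hr.2.1]; exact hj)]
      exact List.getElem_mem _
    obtain ⟨⟨⟨hr1, -⟩, hp0⟩, heq⟩ := hr.2.2 _ hmem
    generalize (repT.getD q.1 []).getD q.2.1 (0, 0, 0) = row at *
    have htI : invT.getD q.1 0 ∈ invT := by
      rw [List.getD_eq_getElem _ _ (inv_ok.1.symm ▸ h27)]; exact List.getElem_mem _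
    have ht64 : invT.getD q.1 0 < 64 := by
      have h1 := List.all_eq_true.1 inv_ok.2 _ htI
      simp only [Bool.and_eq_true, Nat.blt_eq] at h1
      exact h1.1.1
    generalize invT.getD q.1 0 = t at *
    obtain ⟨r0, p0, k0⟩ := row
    simp only at hr1 hp0 heq hk hPk hbk
    obtain ⟨Q, hQ⟩ := C.M.surj (cls (gW e hF h [p0]))
    obtain ⟨v, hv⟩ : ∃ v, v = (E r0)⁻¹ * (Q⁻¹ * E k0 * Q) := ⟨_, rfl⟩
    have hv' : E r0 * v = Q⁻¹ * E k0 * Q := by rw [hv, mul_inv_cancel_left]
    have hiso : isoW [p0] = true := by simp [isoW, hp0]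
    have hinv0 : (gW e hF h [p0])⁻¹ = gW e hF h [p0] := by
      rw [gW_cons, gW_nil, mul_one]
      exact inv_eq_of_mul_eq_one_right (tv_sq e hF h (by rw [hp0]))
    have hUv : τ v = cls (gW e hF h (tW t)) := by
      have e2 := gW_eq e hF h (by
        simp only [isoW, List.all_append, Bool.and_eq_true]
        exact ⟨⟨⟨hiso, isoW_mW r0⟩, isoW_tW t⟩, hiso⟩) (isoW_mW k0) heq
      rw [gW_append, gW_append, gW_append] at e2
      rw [hv, map_mul, map_mul, map_mul, map_inv, map_inv, hQ, C.M.map, C.M.map, ← e2, map_mul, map_mul, map_mul]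
      have h2 : cls (gW e hF h [p0]) * cls (gW e hF h [p0]) = 1 := by
        rw [← map_mul]; nth_rewrite 1 [← hinv0]; rw [inv_mul_cancel, map_one]
      rw [inv_eq_of_mul_eq_one_right h2, show ∀ a b s : Cfsg.PSU 6 F 2, b⁻¹ * (a * (a * b * s * a) * a) =
        b⁻¹ * ((a * a) * b * s * (a * a)) from fun a b s => by group, h2]
      group
    have hxD : ι (E r0 * v) ∈ D := by
      rw [hv', map_mul, map_mul, map_inv]
      have h1 : ι (E k0) ∈ D := hP k0 ▸ hPk
      simpa using hD (ι Q)⁻¹ _ h1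
    have hS1 : E r0 * v ∈ C.M.S := by
      refine ⟨gW e hF h (mW r0) * gW e hF h (tW t), sylGrp_gW r0 t, ?_⟩
      rw [map_mul, map_mul, C.M.map, hUv]
    have hS2 : E q.2.2 ∈ C.M.S := C.M.A_le_S ⟨q.2.2, hm0, rfl⟩
    have hmD : ι (E q.2.2) ∈ D := hP q.2.2 ▸ hPm
    obtain ⟨k, hk2⟩ := C.M.isPGroup_S ⟨_, mul_mem hS1 hS2⟩
    have hk2' : (E r0 * v * E q.2.2) ^ 2 ^ k = 1 := congrArg Subtype.val hk2
    have hsq : (E r0 * v * E q.2.2) ^ 2 = 1 := by
      rcases hT.2 _ hxD _ hmD with r | r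
      · exact C.as.inj (by rw [map_pow, map_mul, r, map_one])
      · have h3 : (E r0 * v * E q.2.2) ^ 3 = 1 := C.as.inj (by rw [map_pow, map_mul, r, map_one])
        have hd := Nat.dvd_gcd (orderOf_dvd_of_pow_eq_one hk2') (orderOf_dvd_of_pow_eq_one h3)
        rw [Nat.Coprime.gcd_eq_one (Nat.Coprime.pow_left k (by norm_num)), Nat.dvd_one, orderOf_eq_one_iff] at hd
        rw [hd, one_pow]
    have hxx : (E r0 * v) * (E r0 * v) = 1 := C.as.inj (by
      rw [map_mul, map_one, ← pow_two, ← hT.1 _ hxD]; exact pow_orderOf_eq_one _)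
    have hconj : E r0 * v * E q.2.2 * (E r0 * v)⁻¹ = E q.2.2 := by
      rw [inv_eq_of_mul_eq_one_right hxx]
      rw [pow_two] at hsq
      calc E r0 * v * E q.2.2 * (E r0 * v)
          = E r0 * v * E q.2.2 * (E r0 * v * E q.2.2) * E q.2.2 := by
            rw [mul_assoc (E r0 * v * E q.2.2) (E r0 * v * E q.2.2), mul_assoc (E r0 * v) (E q.2.2) (E q.2.2),
              C.M.sq, mul_one]
        _ = E q.2.2 := by rw [hsq, one_mul]
    rw [show E r0 * v * E q.2.2 * (E r0 * v)⁻¹ = E r0 * (v * E q.2.2 * v⁻¹) * (E r0)⁻¹ by group,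
      C.M.conj _ _ (actOK_root ht64) v hUv, C.M.inv, C.M.mul, C.M.mul, Nat.xor_comm r0, Nat.xor_assoc, Nat.xor_self,
      Nat.xor_zero] at hconj
    refine hne ?_
    have hlt : dT t q.2.2 < 2048 := xor_lt hm0 (selX_lt _ _ (actOK_root ht64).vec_lt)
    have h6 : E (dT t q.2.2) = E 0 := by
      show E (q.2.2 ^^^ selX (tVec t) q.2.2) = _
      rw [← C.M.mul, hconj, C.M.sq, C.M.zero]
    exact ((C.M.inj hlt (by norm_num)).1 h6).trans rfl
  rcases Nat.eq_zero_or_pos m with rfl | hm0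
  · have h1 := hT.1 _ hx
    rw [C.M.zero, map_one, orderOf_one] at h1
    omega
  have hp : P m := (hP m).symm ▸ hx
  have h1 := List.all_eq_true.1 (by simpa only [coverCheck, forceN_eq] using hCov) m (List.mem_range.2 hm)
  simp only [Nat.testBit_or, Bool.or_eq_true, hmc] at h1
  rcases h1 with (((((r | r) | r) | r) | r) | r) | r
  · exact absurd ((horb 0 (by norm_num) _ r).1 hp) (hno true 0 (by norm_num) (by norm_num))
  · exact absurd ((horb 1 (by norm_num) _ r).1 hp) (hno true 1 (by norm_num) (by norm_num))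
  · exact absurd ((horb 2 (by norm_num) _ r).1 hp) (hno false 2 (by norm_num) (by norm_num))
  · exact absurd ((horb 3 (by norm_num) _ r).1 hp) (hno false 3 (by norm_num) (by norm_num))
  · exact C.pt_iff.2 (Or.inr ⟨m, mem_elemsOf.2 ⟨hm, r⟩, rfl⟩)
  · rw [Nat.testBit_one_eq_true_iff_self_eq_zero] at r
    omega
  · rw [Nat.one_shiftLeft, Nat.testBit_two_pow, decide_eq_true_eq] at r
    exact C.pt_iff.2 (Or.inl (r ▸ C.d_eq))

/-- Such a set, if not empty, is the class of the involution. -/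
theorem Ctx.eq_conjugates (C : Ctx e hF h τ δ c E ι d) {D : Set X} (hT : Cfsg.IsThreeTranspositionSet D)
    (hD : ∀ g : X, ∀ x ∈ D, g * x * g⁻¹ ∈ D) (hne : D.Nonempty) : D = conjugatesOf d := by
  have hsub : ∀ x ∈ D, IsConj d x := fun x hx => by
    obtain ⟨g, hg⟩ := C.conj_into (t := x) (by rw [← pow_two, ← hT.1 x hx]; exact pow_orderOf_eq_one x)
    exact (C.mem_points hT hD (hD g x hx) hg).2.trans (isConj_iff.2 ⟨g⁻¹, by group⟩)
  refine Set.ext fun x => ⟨hsub x, fun hx => ?_⟩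
  obtain ⟨x0, hx0⟩ := hne
  obtain ⟨g, hg⟩ := isConj_iff.1 ((hsub x0 hx0).symm.trans hx)
  exact hg ▸ hD g x0 hx0

/-- The members in a Sylow subgroup generate its Thompson subgroup. -/
theorem Ctx.closure_eq (C : Ctx e hF h τ δ c E ι d) {D : Set X} (hT : Cfsg.IsThreeTranspositionSet D)
    (hD : ∀ g : X, ∀ x ∈ D, g * x * g⁻¹ ∈ D) (hne : D.Nonempty) (T : Sylow 2 X) :
    Subgroup.closure {x : X | x ∈ D ∧ x ∈ (T : Subgroup X)} = Cfsg.thompsonSubgroupOf 2 (T : Subgroup X) := by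
  classical
  haveI := Fact.mk Nat.prime_two
  have hA2 : IsPGroup 2 C.A0 := fun a => ⟨1, Subtype.ext (by
    rw [Subgroup.coe_pow, pow_one, pow_two]; exact C.sq_A0 a.2)⟩
  obtain ⟨T0, hT0⟩ := hA2.exists_le_sylow
  obtain ⟨g, hg⟩ := MulAction.exists_smul_eq X T0 T
  obtain ⟨A, hA⟩ : ∃ A, A = C.A0.map (MulAut.conj g).toMonoidHom := ⟨_, rfl⟩
  have hAT : A ≤ (T : Subgroup X) := by
    rw [← hg, hA]; exact Subgroup.map_mono hT0
  have hAel : Cfsg.IsElementaryAbelian 2 A := by
    rw [hA]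
    exact elem_conj (elem_iff.2 ⟨fun _ ha _ hb => C.comm_A0 ha hb, fun _ ha => by rw [pow_two]; exact C.sq_A0 ha⟩) g
  have hAc : Nat.card A = 1024 := by
    rw [hA, Subgroup.card_map_of_injective (MulAut.conj g).injective, C.card_A0]
  have huniq : ∀ B : Subgroup X, B ≤ (T : Subgroup X) → Cfsg.IsElementaryAbelian 2 B → 1024 ≤ Nat.card B → B = A := by
    intro B hBT hel hc
    have h1 := C.unique (B := B.map (MulAut.conj g⁻¹).toMonoidHom) (by
      rintro _ ⟨b, hb, rfl⟩
      refine C.sylow_le_N hT0 ?_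
      obtain ⟨t, ht, hte⟩ : b ∈ (T0 : Subgroup X).map (MulAut.conj g).toMonoidHom := by
        have := hBT hb
        rwa [← hg] at this
      rw [← hte]
      have he : (MulAut.conj g⁻¹).toMonoidHom ((MulAut.conj g).toMonoidHom t) = t := by simp [mul_assoc]
      rw [he]; exact ht) (elem_conj hel _) (by rwa [Subgroup.card_map_of_injective (MulAut.conj g⁻¹).injective])
    rw [hA, ← h1, Subgroup.map_map]
    convert (Subgroup.map_id B).symm using 2
    ext x
    simp [mul_assoc]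
  obtain ⟨B, hB⟩ : ∃ B, B = Subgroup.closure {x : X | x ∈ D ∧ x ∈ (T : Subgroup X)} := ⟨_, rfl⟩
  have hcomm : ∀ a ∈ {x : X | x ∈ D ∧ x ∈ (T : Subgroup X)}, ∀ b ∈ {x : X | x ∈ D ∧ x ∈ (T : Subgroup X)},
      a * b = b * a := by
    intro a ha b hb
    obtain ⟨k, hk⟩ := T.isPGroup' ⟨a * b, mul_mem ha.2 hb.2⟩
    have hk' : (a * b) ^ 2 ^ k = 1 := congrArg Subtype.val hk
    have hsq : (a * b) ^ 2 = 1 := by
      rcases hT.2 a ha.1 b hb.1 with r | r
      · exact r
      · have hd := Nat.dvd_gcd (orderOf_dvd_of_pow_eq_one hk') (orderOf_dvd_of_pow_eq_one r)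
        rw [Nat.Coprime.gcd_eq_one (Nat.Coprime.pow_left k (by norm_num)), Nat.dvd_one, orderOf_eq_one_iff] at hd
        rw [hd, one_pow]
    have ha2 : a⁻¹ = a := inv_eq_of_mul_eq_one_right (by rw [← pow_two, ← hT.1 a ha.1]; exact pow_orderOf_eq_one a)
    have hb2 : b⁻¹ = b := inv_eq_of_mul_eq_one_right (by rw [← pow_two, ← hT.1 b hb.1]; exact pow_orderOf_eq_one b)
    rw [pow_two] at hsq
    rw [← inv_eq_of_mul_eq_one_right hsq, _root_.mul_inv_rev, ha2, hb2]
  have hBT : B ≤ (T : Subgroup X) := hB ▸ (Subgroup.closure_le _).2 fun x hx => hx.2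
  have hBel : Cfsg.IsElementaryAbelian 2 B := by
    rw [hB]
    haveI := Subgroup.isMulCommutative_closure hcomm
    refine elem_iff.2 ⟨fun a ha b hb => congrArg Subtype.val (mul_comm'
      (⟨a, ha⟩ : ↥(Subgroup.closure {x : X | x ∈ D ∧ x ∈ (T : Subgroup X)})) ⟨b, hb⟩), fun a ha => ?_⟩
    induction ha using Subgroup.closure_induction with
    | mem a ha => rw [← hT.1 a ha.1]; exact pow_orderOf_eq_one a
    | one => exact one_pow _
    | mul a a' ha ha' iha iha' =>
      have hc : Commute a a' := congrArg Subtype.val (mul_comm'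
        (⟨a, ha⟩ : ↥(Subgroup.closure {x : X | x ∈ D ∧ x ∈ (T : Subgroup X)})) ⟨a', ha'⟩)
      rw [hc.mul_pow, iha, iha', one_mul]
    | inv a ha iha => rw [inv_pow, iha, inv_one]
  have hpt : ∀ x, C.IsPt x → g * x * g⁻¹ ∈ B := fun x hx => by
    rw [hB]
    refine Subgroup.subset_closure ⟨hD g x ?_, hAT (hA ▸ ⟨x, hx.1, rfl⟩)⟩
    rw [C.eq_conjugates hT hD hne]
    exact hx.2
  have hAB : A ≤ B := by
    rw [hA]
    rintro _ ⟨x, hx, rfl⟩
    obtain ⟨B', hB'⟩ : ∃ B', B' = B.comap (MulAut.conj g).toMonoidHom := ⟨_, rfl⟩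
    suffices hsuf : x ∈ B' by rw [hB'] at hsuf; exact hsuf
    have hmem : ∀ x, C.IsPt x → x ∈ B' := fun x hx => by
      rw [hB', Subgroup.mem_comap]
      simpa using hpt x hx
    have hdB : ι (E (dOf c)) ∈ B' := C.d_eq.symm ▸ hmem d C.d_pt
    have hbas : ∀ i < 11, ι (E (2 ^ i)) ∈ B' := fun i hi => by
      have h1 := List.all_eq_true.1 (List.all_eq_true.1 span_ok c (List.mem_range.2 C.M.lt)) i (List.mem_range.2 hi)
      simp only [List.any_eq_true, Nat.beq_eq] at h1
      obtain ⟨p, hp, hpe⟩ := h1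
      have h2 := mul_mem (hmem _ (C.pt_iff.2 (Or.inr ⟨p, hp, rfl⟩))) hdB
      rw [← hpe, C.M.can, ← map_mul, C.M.mul,
        show Nat.xor (2 ^ i) (dOf c) ^^^ dOf c = 2 ^ i by
          show (2 ^ i ^^^ dOf c) ^^^ dOf c = _
          rw [Nat.xor_assoc, Nat.xor_self, Nat.xor_zero]] at h2
      exact h2
    obtain ⟨m, hm, -, rfl⟩ := C.mem_A0.1 hx
    have hall : ∀ k ≤ 11, ∀ m < 2 ^ k, ι (E m) ∈ B' := by
      intro k
      induction k with
      | zero =>
        intro _ m hm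
        rw [show m = 0 by simpa using hm, C.M.zero, map_one]; exact one_mem _
      | succ k ih =>
        intro hk m hm
        rcases Nat.lt_or_ge m (2 ^ k) with r | r
        · exact ih (by omega) m r
        · have hlow : m ^^^ 2 ^ k < 2 ^ k := Nat.lt_pow_two_of_testBit _ fun i hi => by
            rw [Nat.testBit_xor, Nat.testBit_two_pow]
            rcases Nat.eq_or_lt_of_le hi with rfl | hlt
            · have : m.testBit k = true := by
                rw [Nat.testBit_eq_decide_div_mod_eq, show m / 2 ^ k = 1 from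
                  Nat.div_eq_of_lt_le (by omega) (by rw [pow_succ] at hm; omega)]
                rfl
              simp [this]
            · have h3 : m.testBit i = false := Nat.testBit_eq_false_of_lt
                (lt_of_lt_of_le hm (Nat.pow_le_pow_right (by norm_num) hlt))
              simp [h3, Nat.ne_of_lt hlt]
          have h4 := mul_mem (ih (by omega) _ hlow) (hbas k (by omega))
          rwa [← map_mul, C.M.mul, Nat.xor_assoc, Nat.xor_self, Nat.xor_zero] at h4
    exact hall 11 le_rfl m (by norm_num; exact hm)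
  have hBA : B = A := huniq B hBT hBel (hAc ▸ Subgroup.card_le_of_le hAB)
  rw [← hB, hBA]
  have hTel : Cfsg.IsElementaryAbelian 2 (A.subgroupOf (T : Subgroup X)) := by
    obtain ⟨hc, hs⟩ := elem_iff.1 hAel
    exact elem_iff.2 ⟨fun x hx y hy => Subtype.ext (hc _ hx _ hy), fun x hx => Subtype.ext (hs _ hx)⟩
  have hTc : Nat.card (A.subgroupOf (T : Subgroup X)) = 1024 := by
    rw [Nat.card_congr (Subgroup.subgroupOfEquivOfLe hAT).toEquiv, hAc]
  have huniq' : ∀ S : Subgroup ↥(T : Subgroup X), Cfsg.IsElementaryAbelian 2 S → 1024 ≤ Nat.card S →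
      S = A.subgroupOf (T : Subgroup X) := by
    intro S hel hc
    have h1 := huniq (S.map (T : Subgroup X).subtype) (Subgroup.map_subtype_le S) (by
      obtain ⟨hcS, hsS⟩ := elem_iff.1 hel
      refine elem_iff.2 ⟨?_, ?_⟩
      · rintro _ ⟨y, hy, rfl⟩ _ ⟨y', hy', rfl⟩
        rw [← map_mul, ← map_mul, hcS y hy y' hy']
      · rintro _ ⟨y, hy, rfl⟩
        rw [← map_pow, hsS y hy, map_one])
      (by rwa [Subgroup.card_map_of_injective (Subgroup.subtype_injective _)])
    refine Subgroup.map_injective (Subgroup.subtype_injective _) ?_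
    rw [Subgroup.subgroupOf_map_subtype, inf_eq_left.2 hAT, h1]
  have hmax : Cfsg.maxElementaryAbelianSubgroups 2 ↥(T : Subgroup X) = {A.subgroupOf (T : Subgroup X)} := by
    refine Set.eq_singleton_iff_unique_mem.2 ⟨⟨hTel, fun S hS => ?_⟩, fun S hS => huniq' S hS.1 ?_⟩
    · rcases Nat.lt_or_ge (Nat.card S) 1024 with r | r
      · exact hTc.symm ▸ r.le
      · rw [huniq' S hS r]
    · exact hTc ▸ hS.2 _ hTel
  show A = (sSup (Cfsg.maxElementaryAbelianSubgroups 2 ↥(T : Subgroup X))).map (T : Subgroup X).subtype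
  rw [hmax, sSup_singleton, Subgroup.subgroupOf_map_subtype, inf_eq_left.2 hAT]

omit [Finite H] [Finite X] in
/-- The data from the hypotheses. -/
theorem with_ctx {G : Type z} [Group G] [Finite G]
    (hM : ∃ d : G, orderOf d = 2 ∧ Cfsg.IsQuasisimple ↥(Subgroup.centralizer ({d} : Set G)) ∧ (∃ (_ : ((Subgroup.zpowers d).subgroupOf (Subgroup.centralizer ({d} : Set G))).Normal) (K : Type) (_ : Field K) (_ : Fintype K), Fintype.card K = 4 ∧ Nonempty (↥(Subgroup.centralizer ({d} : Set G)) ⧸ (Subgroup.zpowers d).subgroupOf (Subgroup.centralizer ({d} : Set G)) ≃* Cfsg.PSU 6 K 2)) ∧ ∃ g : G, g * d * g⁻¹ ∈ Subgroup.centralizer ({d} : Set G) ∧ g * d * g⁻¹ ≠ d)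
    {P : Prop}
    (cont : ∀ (F : Type) (_ : Field F) (_ : Finite F) (e : QField →+* F) (σ : F →+* F) (hF : Nat.card F = 2 ^ 2)
      (h : UFrob σ 2) (d : G) (δ : ↥(Subgroup.centralizer ({d} : Set G)))
      (τ : ↥(Subgroup.centralizer ({d} : Set G)) →* Cfsg.PSU 6 F 2) (c : ℕ)
      (E : ℕ → ↥(Subgroup.centralizer ({d} : Set G))),
      Ctx e hF h τ δ c E (Subgroup.centralizer ({d} : Set G)).subtype d → P) : P := by
  obtain ⟨d, hd, hq, ⟨hzn, K, _, _, hK, ⟨eP⟩⟩, hwc⟩ := hM
  have hF : Nat.card K = 2 ^ 2 := by rw [Nat.card_eq_fintype_card, hK]; norm_num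
  obtain ⟨σ, hσ⟩ := exists_uFrob hF
  have eK : QField →+* K := (FiniteField.ringEquivOfCardEq (K := QField) (K' := K) (by rw [hK]; rfl)).toRingHom
  obtain ⟨δ, hδ⟩ : ∃ δ : ↥(Subgroup.centralizer ({d} : Set G)), δ = ⟨d, Subgroup.mem_centralizer_singleton_iff.2 rfl⟩ :=
    ⟨_, rfl⟩
  have hord : orderOf δ = 2 := by rw [← Subgroup.orderOf_coe, hδ]; exact hd
  have hcen : ∀ x, δ * x = x * δ := fun x => Subtype.ext (by
    rw [hδ, Subgroup.coe_mul, Subgroup.coe_mul]
    exact (Subgroup.mem_centralizer_singleton_iff.1 x.2).symm)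
  obtain ⟨τ, hτd⟩ : ∃ τ : ↥(Subgroup.centralizer ({d} : Set G)) →* Cfsg.PSU 6 K 2,
      τ = eP.toMonoidHom.comp (QuotientGroup.mk' _) := ⟨_, rfl⟩
  have hτs : Function.Surjective τ := by
    rw [hτd]; exact eP.surjective.comp (QuotientGroup.mk'_surjective _)
  have hker : ∀ x, τ x = 1 ↔ x = 1 ∨ x = δ := fun x => by
    rw [hτd, MonoidHom.comp_apply, MulEquiv.coe_toMonoidHom, map_eq_one_iff eP eP.injective, QuotientGroup.mk'_apply,
      QuotientGroup.eq_one_iff, Subgroup.mem_subgroupOf, Subgroup.mem_zpowers_iff]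
    constructor
    · rintro ⟨k, hk⟩
      rcases Int.emod_two_eq k with r | r
      · left
        refine Subtype.ext ?_
        rw [← hk, ← zpow_mod_orderOf, hd]
        simp [r]
      · right
        refine Subtype.ext ?_
        rw [← hk, ← zpow_mod_orderOf, hd, hδ]
        simp [r]
    · rintro (rfl | rfl)
      · exact ⟨0, by simp⟩
      · exact ⟨1, by simp [hδ]⟩
  obtain ⟨H₀, _, _, ⟨η⟩⟩ : ∃ (H₀ : Type) (_ : Group H₀) (_ : Finite H₀),
      Nonempty (H₀ ≃* ↥(Subgroup.centralizer ({d} : Set G))) :=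
    ⟨Fin (Nat.card ↥(Subgroup.centralizer ({d} : Set G))), (Finite.equivFin _).symm.group, inferInstance,
      ⟨(Finite.equivFin ↥(Subgroup.centralizer ({d} : Set G))).symm.mulEquiv⟩⟩
  have hperf : commutator H₀ = ⊤ := by
    have h0 : commutator ↥(Subgroup.centralizer ({d} : Set G)) = ⊤ := (Group.isPerfect_def.1 hq.1 :)
    have h1 := congrArg (Subgroup.map η.symm.toMonoidHom) h0
    rwa [commutator_def, Subgroup.map_commutator, Subgroup.map_top_of_surjective _ η.symm.surjective,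
      ← commutator_def] at h1
  obtain ⟨c, E₀, M₀⟩ := exists_mdl eK hF hσ hperf (τ.comp η.toMonoidHom) (hτs.comp η.surjective) (η.symm δ)
    (by rw [MulEquiv.orderOf_eq]; exact hord)
    (fun x => η.injective (by simpa using hcen (η x)))
    (fun x => by rw [MonoidHom.comp_apply, hker]; simp [MulEquiv.eq_symm_apply])
  refine cont K inferInstance inferInstance eK σ hF hσ d δ τ c _ ⟨M₀.transfer η, ⟨Subgroup.subtype_injective _,
    fun g => by rw [Subgroup.range_subtype, Subgroup.mem_centralizer_singleton_iff], by rw [hδ]; rfl⟩, ?_⟩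
  obtain ⟨g, hg1, hg2⟩ := hwc
  exact ⟨g, by rw [Subgroup.range_subtype]; exact hg1, hg2⟩

end CfsgLib.KnownB.Fi22Double
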