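import Cfsg.Agent.Lib.KnownB.Fi22Double.Main
import Cfsg.Agent.Lib.KnownB.Fi22Double.Class

/-!
Every involution of a group of type M(23) is conjugate into the preimage of the plane subgroup; a set
of 3-transpositions is the class of the central involution.
-/

set_option autoImplicit false
set_option maxRecDepth 20000

noncomputable section

namespace CfsgLib.KnownB.Fi22Double

open Matrix CfsgLib.Classical CfsgLib.Classical.Unitary CfsgLib.Spor CfsgLib.MultSU CfsgLib.KnownB.U62Mult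
  CfsgLib.KnownB.U62Thompson

universe u

variable {F : Type} [Field F] {e : QField →+* F} {σ : F →+* F} [Finite F] {hF : Nat.card F = 2 ^ 2}
  {h : UFrob σ 2} {Cg : Type u} [Group Cg] [Finite Cg] {X : Type u} [Group X] [Finite X]
  {q : Cg →* X} {δ : Cg} {d' : X} {τ : ↥(Subgroup.centralizer ({d'} : Set X)) →* Cfsg.PSU 6 F 2} {c : ℕ}
  {E : ℕ → ↥((Subgroup.centralizer ({d'} : Set X)).comap q)}
  {G : Type u} [Group G] [Finite G] {j : Cg →* G} {d : G}

/-- A two-subgroup of the centraliser through the preimage of the plane subgroup has it as only large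
elementary abelian subgroup. -/
theorem Dbl.unique_le (D : Dbl e hF h q δ d' τ c E) {T : Subgroup Cg} (hT : IsPGroup 2 T) (hAT : D.Ah ≤ T)
    {B : Subgroup Cg} (hBT : B ≤ T) (hel : Cfsg.IsElementaryAbelian 2 B) (hcard : 2048 ≤ Nat.card B) :
    B = D.Ah := by
  haveI := Fact.mk Nat.prime_two
  obtain ⟨T', hT'⟩ := (hT.map q).exists_le_sylow
  have hA0 : D.ctx.A0 ≤ T.map q := by
    rw [← Subgroup.map_comap_eq_self_of_surjective D.surj D.ctx.A0]
    exact Subgroup.map_mono hAT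
  have hN : (T' : Subgroup X) ≤ D.ctx.N := D.ctx.sylow_le_N (hA0.trans hT')
  obtain ⟨hc, hs⟩ := elem_iff.1 hel
  have h1 := D.ctx.unique (B := B.map q) ((Subgroup.map_mono hBT).trans (hT'.trans hN)) (by
    refine elem_iff.2 ⟨?_, ?_⟩
    · rintro _ ⟨a, ha, rfl⟩ _ ⟨b, hb, rfl⟩
      rw [← map_mul, ← map_mul, hc a ha b hb]
    · rintro _ ⟨a, ha, rfl⟩
      rw [← map_pow, hs a ha, map_one]) (by have := D.card_map B; omega)
  exact Subgroup.eq_of_le_of_card_ge (fun b hb => show q b ∈ D.ctx.A0 from h1 ▸ ⟨b, hb, rfl⟩)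
    (D.card_Ah.trans_le hcard)

/-- Every involution is conjugate into the preimage of the plane subgroup. -/
theorem Dbl.conj_into_G (D : Dbl e hF h q δ d' τ c E) (hA : AsCent j δ d)
    (hwc : ∃ g : G, g * d * g⁻¹ ∈ j.range ∧ g * d * g⁻¹ ≠ d) {t : G} (ht : t * t = 1) :
    ∃ g : G, ∃ y ∈ D.Ah, j y = g * t * g⁻¹ := by
  classical
  haveI := Fact.mk Nat.prime_two
  obtain ⟨T, hAT⟩ := (show IsPGroup 2 D.Ah from fun y => ⟨1, Subtype.ext (by
    rw [Subgroup.coe_pow, pow_one, pow_two]; exact D.sq_Ah y.2)⟩).exists_le_sylow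
  obtain ⟨A, hAdef⟩ : ∃ A, A = D.Ah.map j := ⟨_, rfl⟩
  obtain ⟨N, hN⟩ : ∃ N, N = Subgroup.normalizer ((A : Subgroup G) : Set G) := ⟨_, rfl⟩
  obtain ⟨TG, hTG⟩ : ∃ TG, TG = (T : Subgroup Cg).map j := ⟨_, rfl⟩
  have hTG2 : IsPGroup 2 TG := hTG ▸ T.isPGroup'.map j
  obtain ⟨P, hP⟩ := hTG2.exists_le_sylow
  -- the normaliser has the involution in an orbit of odd length
  letI : MulAction ↥N G := MulAction.compHom G (MulAut.conj.comp N.subtype)
  have horb : MulAction.orbit ↥N d = {x : G | x ∈ D.Ah.map j ∧ IsConj d x} := by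
    ext x
    constructor
    · rintro ⟨n, rfl⟩
      refine ⟨?_, isConj_iff.2 ⟨n.1, rfl⟩⟩
      have h1 := n.2
      simp only [hN, hAdef, Subgroup.mem_normalizer_iff] at h1
      exact (h1 d).1 (hA.image ▸ Subgroup.mem_map_of_mem j
        (show q δ ∈ D.ctx.A0 from (D.ker δ).2 (Or.inr rfl) ▸ one_mem _))
    · rintro ⟨hx, hc⟩
      obtain ⟨n, hn, hnx⟩ := D.exists_norm hA hx hc
      exact ⟨⟨n, by rw [hN, hAdef]; exact hn⟩, hnx⟩
  have hStab : (MulAction.stabilizer ↥N d).map N.subtype ≤ j.range := by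
    rintro _ ⟨n, hn, rfl⟩
    exact (hA.range _).2 (mul_inv_eq_iff_eq_mul.1 (MulAction.mem_stabilizer_iff.1 hn))
  have hNcard : Nat.card N ∣ Nat.card Cg * 23 := by
    rw [← Subgroup.card_mul_index (MulAction.stabilizer ↥N d), MulAction.index_stabilizer, horb, D.count hA hwc]
    refine Nat.mul_dvd_mul_right ?_ _
    rw [← Subgroup.card_map_of_injective (Subgroup.subtype_injective N),
      Nat.card_congr (MonoidHom.ofInjective hA.inj).toEquiv]
    exact Subgroup.card_dvd_of_le hStab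
  -- the normaliser of a Sylow subgroup in a larger two-group
  obtain ⟨R, hR⟩ : ∃ R, R = (P : Subgroup G) ⊓ Subgroup.normalizer ((TG : Subgroup G) : Set G) := ⟨_, rfl⟩
  have hTR : TG ≤ R := hR ▸ le_inf hP Subgroup.le_normalizer
  have hRN : R ≤ N := by
    intro y hy
    rw [hR, Subgroup.mem_inf] at hy
    have hyn := hy.2
    rw [Subgroup.mem_normalizer_iff] at hyn
    have hmap : A.map (MulAut.conj y).toMonoidHom = A := by
      have hle : A.map (MulAut.conj y).toMonoidHom ≤ TG := by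
        rintro _ ⟨a, ha, rfl⟩
        exact (hyn a).1 (hTG ▸ Subgroup.map_mono hAT (hAdef ▸ ha))
      obtain ⟨B, hB⟩ : ∃ B, B = (A.map (MulAut.conj y).toMonoidHom).comap j := ⟨_, rfl⟩
      have hBmap : B.map j = A.map (MulAut.conj y).toMonoidHom := by
        rw [hB, Subgroup.map_comap_eq_self (hle.trans (hTG ▸ Subgroup.map_le_range j (T : Subgroup Cg)))]
      have hBT : B ≤ (T : Subgroup Cg) := fun b hb => by
        obtain ⟨t, ht, hte⟩ : j b ∈ (T : Subgroup Cg).map j := hTG ▸ hle (hBmap ▸ Subgroup.mem_map_of_mem j hb)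
        exact hA.inj hte ▸ ht
      have hel : Cfsg.IsElementaryAbelian 2 (A.map (MulAut.conj y).toMonoidHom) := by
        refine elem_conj (elem_iff.2 ⟨?_, ?_⟩) y <;> rw [hAdef]
        · rintro _ ⟨a, ha, rfl⟩ _ ⟨b, hb, rfl⟩
          rw [← map_mul, ← map_mul, D.comm_Ah ha hb]
        · rintro _ ⟨a, ha, rfl⟩
          rw [← map_pow, pow_two, D.sq_Ah ha, map_one]
      obtain ⟨hc, hs⟩ := elem_iff.1 hel
      have h1 := D.unique_le T.isPGroup' hAT hBT (elem_iff.2 ⟨fun a ha b hb => hA.inj (by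
          rw [map_mul, map_mul]; exact hc _ (hBmap ▸ Subgroup.mem_map_of_mem j ha) _ (hBmap ▸ Subgroup.mem_map_of_mem j hb)),
        fun a ha => hA.inj (by rw [map_pow, map_one]; exact hs _ (hBmap ▸ Subgroup.mem_map_of_mem j ha))⟩) (by
        rw [← Subgroup.card_map_of_injective hA.inj, hBmap,
          Subgroup.card_map_of_injective (MulAut.conj y).injective, hAdef, Subgroup.card_map_of_injective hA.inj,
          D.card_Ah])
      rw [← hBmap, h1, hAdef]
    rw [hN, Subgroup.mem_normalizer_iff]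
    intro x
    refine ⟨fun hx => hmap ▸ ⟨x, hx, rfl⟩, fun hx => ?_⟩
    rw [← hmap] at hx
    obtain ⟨z, hz, hze⟩ := hx
    rwa [← (MulAut.conj y).injective hze]
  have hTGR : TG = R := by
    refine Subgroup.eq_of_le_of_card_ge hTR ?_
    obtain ⟨k, hk⟩ := IsPGroup.iff_card.1 (P.isPGroup'.to_le (hR ▸ inf_le_left : R ≤ (P : Subgroup G)))
    have h1 : 2 ^ k ∣ Nat.card Cg := (Nat.Coprime.pow_left k (by norm_num : Nat.Coprime 2 23)).dvd_of_dvd_mul_right
      (hk ▸ (Subgroup.card_dvd_of_le hRN).trans hNcard)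
    rw [hTG, Subgroup.card_map_of_injective hA.inj, hk, T.card_eq_multiplicity]
    exact Nat.pow_le_pow_right (by norm_num)
      ((Nat.prime_two.pow_dvd_iff_le_factorization Nat.card_pos.ne').1 h1)
  have hPT : (P : Subgroup G) = TG := by
    haveI := P.isPGroup'.isNilpotent
    by_contra hne
    have hlt : TG.subgroupOf (P : Subgroup G) < ⊤ := lt_top_iff_ne_top.2 fun r =>
      hne (le_antisymm (Subgroup.subgroupOf_eq_top.1 r) hP)
    obtain ⟨y, hy, hy'⟩ := SetLike.exists_of_lt (normalizerCondition_of_isNilpotent _ hlt)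
    refine hy' (show y.1 ∈ TG from hTGR.symm ▸ hR ▸ ⟨y.2, ?_⟩)
    show y.1 ∈ Subgroup.normalizer (TG : Set G)
    rw [Subgroup.mem_normalizer_iff]
    rw [Subgroup.mem_normalizer_iff] at hy
    intro x
    have key : x ∈ TG → x ∈ (P : Subgroup G) := fun hx => hP hx
    constructor
    · intro hx
      exact (hy ⟨x, key hx⟩).1 hx
    · intro hx
      have hxP : x ∈ (P : Subgroup G) := by
        have h2 := mul_mem (mul_mem (inv_mem y.2) (hP hx)) y.2
        convert h2 using 1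
        group
      exact (hy ⟨x, hxP⟩).2 hx
  have hZ : IsPGroup 2 (Subgroup.zpowers t) := by
    obtain ⟨k, -, hk⟩ := (Nat.dvd_prime_pow Nat.prime_two).1
      (orderOf_dvd_of_pow_eq_one (show t ^ 2 ^ 1 = 1 by rw [pow_one, pow_two, ht]))
    exact IsPGroup.of_card ((Nat.card_zpowers t).trans hk)
  obtain ⟨Q, hQ⟩ := hZ.exists_le_sylow
  obtain ⟨g, hg⟩ := MulAction.exists_smul_eq G Q P
  have hgt : g * t * g⁻¹ ∈ ((g • Q : Sylow 2 G) : Subgroup G) := ⟨t, hQ (Subgroup.mem_zpowers t), rfl⟩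
  rw [hg] at hgt
  obtain ⟨v, -, hv⟩ : g * t * g⁻¹ ∈ (T : Subgroup Cg).map j := hTG ▸ hPT ▸ hgt
  have hvv : v * v = 1 := hA.inj (by
    rw [map_mul, hv, map_one, show g * t * g⁻¹ * (g * t * g⁻¹) = g * (t * t) * g⁻¹ by group, ht]; group)
  obtain ⟨x0, hx0⟩ := D.ctx.conj_into (t := q v) (by rw [← map_mul, hvv, map_one])
  obtain ⟨a, rfl⟩ := D.surj x0
  refine ⟨j a * g, a * v * a⁻¹, show q (a * v * a⁻¹) ∈ D.ctx.A0 by rw [map_mul, map_mul, map_inv]; exact hx0, ?_⟩
  rw [map_mul, map_mul, map_inv, hv]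
  group

/-- A set of 3-transpositions closed under conjugation is the class of the involution. -/
theorem Dbl.class23 (D : Dbl e hF h q δ d' τ c E) (hA : AsCent j δ d)
    (hwc : ∃ g : G, g * d * g⁻¹ ∈ j.range ∧ g * d * g⁻¹ ≠ d) {S : Set G} (hT : Cfsg.IsThreeTranspositionSet S)
    (hS : ∀ g : G, ∀ x ∈ S, g * x * g⁻¹ ∈ S) (hne : S.Nonempty) : S = conjugatesOf d := by
  obtain ⟨SX, hSX⟩ : ∃ SX : Set X, SX = {u | u ≠ 1 ∧ ∃ v : Cg, j v ∈ S ∧ q v = u} := ⟨_, rfl⟩
  have hTX : Cfsg.IsThreeTranspositionSet SX := by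
    haveI := Fact.mk Nat.prime_two
    subst hSX
    refine ⟨?_, ?_⟩
    · rintro _ ⟨hu, v, hv, rfl⟩
      refine orderOf_eq_prime ?_ hu
      have h1 : j (v ^ 2) = j 1 := by rw [map_pow, map_one, ← hT.1 _ hv]; exact pow_orderOf_eq_one _
      rw [← map_pow, hA.inj h1, map_one]
    · rintro _ ⟨-, a, ha, rfl⟩ _ ⟨-, b, hb, rfl⟩
      rcases hT.2 _ ha _ hb with r | r <;> [left; right] <;> rw [← map_mul, ← map_pow] <;>
        rw [← map_mul, ← map_pow, ← map_one j] at r <;> rw [hA.inj r, map_one]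
  have hSXc : ∀ g : X, ∀ u ∈ SX, g * u * g⁻¹ ∈ SX := by
    subst hSX
    rintro g _ ⟨hu, v, hv, rfl⟩
    obtain ⟨a, rfl⟩ := D.surj g
    refine ⟨fun r => hu ?_, a * v * a⁻¹, by rw [map_mul, map_mul, map_inv]; exact hS _ _ hv, by simp⟩
    calc q v = (q a)⁻¹ * (q a * q v * (q a)⁻¹) * q a := by group
      _ = 1 := by rw [r]; group
  have hpt : ∀ v ∈ D.Ah, j v ∈ S → q v = 1 ∨ D.ctx.IsPt (q v) := fun v hv hvS => by
    by_cases h1 : q v = 1
    · exact Or.inl h1
    · exact Or.inr (D.ctx.mem_points hTX hSXc (hSX ▸ ⟨h1, v, hvS, rfl⟩) hv)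
  -- the other lift of a point is no member
  have hkey : ∀ y ∈ D.Ah, j y ∈ S → D.ctx.IsPt (q y) → IsConj d (j y) := by
    intro y hy hyS hyp
    obtain ⟨y0, hy0, hc0, hq0⟩ := D.exists_lift hA hwc hyp
    rcases (D.ker (y0⁻¹ * y)).1 (by rw [map_mul, map_inv, hq0, inv_mul_cancel]) with r | r
    · exact inv_mul_eq_one.1 r ▸ hc0
    exfalso
    have hyd : y = y0 * δ := by rw [← r, mul_inv_cancel_left]
    obtain ⟨w1, hw1, hc1, hq1⟩ := D.exists_lift hA hwc D.ctx.d_pt
    obtain ⟨p, hp, -⟩ := pts_distinct D.ctx.M.lt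
    obtain ⟨w2, hw2, hc2, hq2⟩ := D.exists_lift hA hwc (D.ctx.pt_iff.2 (Or.inr ⟨p, hp, rfl⟩))
    obtain ⟨n, hn, hnd⟩ := D.exists_norm hA (Subgroup.mem_map_of_mem j hw1) hc1
    rw [Subgroup.mem_normalizer_iff] at hn
    obtain ⟨z, hz, hze⟩ : n⁻¹ * j w2 * n ∈ D.Ah.map j :=
      (hn _).2 (by rw [show n * (n⁻¹ * j w2 * n) * n⁻¹ = j w2 by group]; exact Subgroup.mem_map_of_mem j hw2)
    have hcz : IsConj d (j z) := hc2.trans (isConj_iff.2 ⟨n⁻¹, by rw [hze]; group⟩)
    have hzpt : D.ctx.IsPt (q z) := (D.pt_or_eq hA hz hcz).resolve_left fun r' => by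
      rw [r', hA.image] at hze
      have hw : w2 = w1 := hA.inj (by rw [← hnd, hze]; group)
      rw [hw, hq1] at hq2
      exact D.ctx.pts_ne hp hq2.symm
    -- move the pair over `q y` to the pair over `q z`
    obtain ⟨a, -, haq⟩ := D.move hyp hzpt
    have hay : j (a * y * a⁻¹) ∈ S := by rw [map_mul, map_mul, map_inv]; exact hS _ _ hyS
    have hzS : j (z * δ) ∈ S := by
      rcases (D.ker (z⁻¹ * (a * y * a⁻¹))).1
        (by rw [map_mul, map_inv, map_mul, map_mul, map_inv, haq, inv_mul_cancel]) with r' | r'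
      · have e1 : a * y0 * a⁻¹ = z * δ := by
          rw [inv_mul_eq_one.1 r', hyd, show a * (y0 * δ) * a⁻¹ * δ = a * y0 * (δ * a⁻¹ * δ) by group,
            D.central a⁻¹, mul_assoc a⁻¹, D.sq_δ, mul_one]
        obtain ⟨g, hg⟩ := isConj_iff.1 (hcz.symm.trans
          (hc0.trans (isConj_iff.2 ⟨j a, (show _ = j (z * δ) by rw [← e1]; simp)⟩)))
        exact hg ▸ hS g _ (inv_mul_eq_one.1 r' ▸ hay)
      · rwa [← r', mul_inv_cancel_left]
    have hwS : j (w2 * w1) ∈ S := by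
      have h1 := hS n _ hzS
      rwa [map_mul, hA.image, hze, show n * (n⁻¹ * j w2 * n * d) * n⁻¹ = j w2 * (n * d * n⁻¹) by group, hnd,
        ← map_mul] at h1
    have h2 := hpt _ (mul_mem hw2 hw1) hwS
    rw [map_mul, hq2, hq1] at h2
    exact h2.elim (D.pair_not_pt hp).1 (D.pair_not_pt hp).2
  have hsub : ∀ x ∈ S, IsConj d x := fun x hx => by
    obtain ⟨g, y, hy, hyx⟩ := D.conj_into_G hA hwc (t := x) (by rw [← pow_two, ← hT.1 x hx]; exact pow_orderOf_eq_one x)
    have hyS : j y ∈ S := hyx ▸ hS g x hx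
    have hc : IsConj d (j y) := by
      rcases hpt y hy hyS with r | r
      · rcases (D.ker y).1 r with r' | r'
        · have h2 := hT.1 _ hyS
          rw [r', map_one, orderOf_one] at h2
          omega
        · rw [r', hA.image]
      · exact hkey y hy hyS r
    exact hc.trans (isConj_iff.2 ⟨g⁻¹, by rw [hyx]; group⟩)
  refine Set.ext fun x => ⟨hsub x, fun hx => ?_⟩
  obtain ⟨x0, hx0⟩ := hne
  obtain ⟨g, hg⟩ := isConj_iff.1 ((hsub x0 hx0).symm.trans hx)
  exact hg ▸ hS g x0 hx0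

end CfsgLib.KnownB.Fi22Double
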