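import Cfsg.Agent.Lib.KnownB.U62Thompson.Code

/-!
Computable checks on the plane subgroup: the stabiliser of a second point, and the classes of
its elements under the larger normaliser.
-/

set_option autoImplicit false
set_option maxRecDepth 100000

noncomputable section

namespace CfsgLib.KnownB.Fi22Double

open CfsgLib.KnownB.U62Mult CfsgLib.KnownB.U62Thompson

/-- the word of a generator -/
def gWd (g : ℕ) : List ℕ := (rootWords ++ [moverW]).getD g []

/-- the word of a chain of generators -/
def chainW : List ℕ → List ℕ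
  | [] => []
  | g :: r => gWd g ++ chainW r

/-- the action of a chain of generators on vectors -/
def chainV : List ℕ → ℕ → ℕ
  | [], m => m
  | g :: r, m => selX (genVec.getD g []) (chainV r m)

/-- chains fixing the second point -/
def stabChains : List (List ℕ) :=
  [[0], [1], [2], [3], [4], [5], [6, 1, 6], [6, 0, 6], [6, 3, 6, 2, 6], [6, 2, 6, 3, 6]]

/-- each root word is a commutator of chains -/
def relT : List (List ℕ × List ℕ) :=
  [([6, 1, 6], [3]), ([6, 0, 6], [2]), ([4], [0]), ([4], [1]), ([6, 3, 6, 2, 6], [5]), ([6, 2, 6, 3, 6], [4])]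

/-- displacements spanning everything -/
def dispT : List (List ℕ × ℕ) :=
  [([0], 0), ([0], 1), ([0], 3), ([0], 6), ([1], 0), ([1], 1), ([1], 6), ([4], 1), ([4], 6), ([5], 1), ([6, 1, 6], 0)]

/-- the displacement vectors -/
def dispV : List ℕ := dispT.map fun q => Nat.xor (2 ^ q.2) (chainV q.1 (2 ^ q.2))

/-- the second point -/
def yPt (c : ℕ) : ℕ := [1445, 187, 187].getD c 0

/-- the points other than the base point -/
def pts (c : ℕ) : List ℕ := elemsOf (orbBits c 4)

/-- a representative of the third orbit as a product of three points -/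
def triT (c : ℕ) : List ℕ := [[286, 1212, 1445], [143, 868, 1004], [143, 868, 1004]].getD c []

/-- witnesses that both lifts of a class are squares -/
def bothT (c i : ℕ) : ℕ × (ℕ × ℕ) × (ℕ × ℕ) :=
  if Nat.beq i 1 then
    [(48, (3, 16), (1, 323)), (36, (2, 4), (0, 3)), (36, (2, 4), (1, 65))].getD c (0, (0, 0), (0, 0))
  else
    [(330, (3, 66), (2, 6)), (58, (3, 18), (2, 78)), (175, (0, 75), (1, 66))].getD c (0, (0, 0), (0, 0))

/-- one witness -/
def bothOK (c i : ℕ) : Bool :=
  let b := bothT c i
  (orbBits c i).testBit b.1 && Nat.blt b.1 2048 && Nat.blt b.2.1.1 6 && Nat.blt b.2.2.1 6 &&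
    Nat.beq (Nat.xor b.2.1.2 (selX (genVec.getD b.2.1.1 []) b.2.1.2)) b.1 &&
    Nat.beq (Nat.xor b.2.2.2 (selX (genVec.getD b.2.2.1 []) b.2.2.2)) (Nat.xor b.1 (zOf c))

/-- the checks on the points -/
def ptsCheck (c : ℕ) : Bool :=
  (pts c).all (fun p => Nat.beq (canZ (zOf c) p) p && !Nat.beq p (dOf c) &&
    (orbBits c 0).testBit (canZ (zOf c) (Nat.xor p (dOf c))) &&
    (pts c).all fun q => Nat.beq p q || ((orbBits c 1).testBit (canZ (zOf c) (Nat.xor p q)) &&
      (orbBits c 3).testBit (canZ (zOf c) (Nat.xor (Nat.xor (dOf c) p) q)))) &&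
  (elemsOf (orbBits c 0)).all (fun m => !(orbBits c 1).testBit m) &&
  (pts c).any (Nat.beq (yPt c)) &&
  stabChains.all (fun g => Nat.beq (canZ (zOf c) (chainV g (yPt c))) (yPt c)) &&
  (pts c).any (fun p => !Nat.beq (canZ (zOf c) (selX (genVec.getD 0 []) p)) p) &&
  Nat.beq (pts c).length 21

/-- the check on the representative of the third orbit -/
def triCheck (c : ℕ) : Bool :=
  let a := (triT c).getD 0 0
  let b := (triT c).getD 1 0
  let d := (triT c).getD 2 0
  (pts c).any (Nat.beq a) && (pts c).any (Nat.beq b) && (pts c).any (Nat.beq d) &&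
    !Nat.beq a b && !Nat.beq a d && !Nat.beq b d &&
    Nat.beq (canZ (zOf c) (Nat.xor (Nat.xor a b) d)) (orbRoot c 2)

theorem pts_ok : ((List.range 3).all fun c => ptsCheck c && triCheck c) = true := by decide +kernel

theorem both_ok : ((List.range 3).all fun c => bothOK c 1 && bothOK c 3) = true := by decide +kernel

theorem rel_ok : ((List.range 6).all fun r =>
    let q := relT.getD r ([], [])
    stabChains.contains q.1 && stabChains.contains q.2 &&
    eqW (gWd r) (chainW q.1 ++ chainW q.2 ++ (chainW q.1).reverse ++ (chainW q.2).reverse)) = true := by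
  decide +kernel

theorem chain_iso : (stabChains.all fun g => isoW (chainW g) && g.all fun i => Nat.blt i 7) = true := by
  decide +kernel

theorem disp_lt : (dispT.all fun q => stabChains.contains q.1 && Nat.blt q.2 11) = true := by decide +kernel

theorem disp_span : (forceN (bitsL ((List.range 2048).map (selX dispV))) fun B =>
    (List.range 2048).all fun m => B.testBit m) = true := by decide +kernel

end CfsgLib.KnownB.Fi22Double
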