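import Cfsg.Agent.Lib.KnownB.U62Thompson.Orbit
import Cfsg.Agent.Lib.KnownB.Fi22Double.Tables

/-!
The plane in coordinates inside a central extension of `PSU₆(2)` by a `2`-group.
-/

set_option autoImplicit false
set_option maxRecDepth 20000

noncomputable section

namespace CfsgLib.KnownB.Fi22Double

open Matrix CfsgLib.Classical CfsgLib.Classical.Unitary CfsgLib.Spor CfsgLib.MultSU CfsgLib.KnownB.U62Mult
  CfsgLib.KnownB.U62Thompson

universe u w

variable {F : Type} [Field F] {e : QField →+* F} {σ : F →+* F} [Finite F] {hF : Nat.card F = 2 ^ 2}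
  {h : UFrob σ 2}

/-- the plane in coordinates -/
structure Cov (e : QField →+* F) (hF : Nat.card F = 2 ^ 2) (h : UFrob σ 2) {K : Type w} [Group K]
    (τ : K →* Cfsg.PSU 6 F 2) (E : ℕ → K) : Prop where
  surj : Function.Surjective τ
  mul : ∀ a b, E a * E b = E (a ^^^ b)
  conj : ∀ w v, ActOK w v → ∀ K, τ K = cls (gW e hF h w) → ∀ m, K * E m * K⁻¹ = E (selX v m)
  map : ∀ m, τ (E m) = cls (gW e hF h (mW m))
  cen : ∀ x, τ x = 1 → ∀ y, x * y = y * x

variable {K : Type w} [Group K] {τ : K →* Cfsg.PSU 6 F 2} {E : ℕ → K}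

omit [Finite F] in
theorem cov_zero_aux (hmul : ∀ a b, E a * E b = E (a ^^^ b)) : E 0 = 1 := by
  have h1 := hmul 0 0
  rw [Nat.xor_self] at h1
  exact mul_eq_left.1 h1

theorem Cov.zero (M : Cov e hF h τ E) : E 0 = 1 := cov_zero_aux M.mul

theorem Cov.sq (M : Cov e hF h τ E) (m : ℕ) : E m * E m = 1 := by rw [M.mul, Nat.xor_self, M.zero]

theorem Cov.inv (M : Cov e hF h τ E) (m : ℕ) : (E m)⁻¹ = E m := inv_eq_of_mul_eq_one_right (M.sq m)

theorem Cov.comm (M : Cov e hF h τ E) (a b : ℕ) : E a * E b = E b * E a := by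
  rw [M.mul, M.mul, Nat.xor_comm]

theorem Cov.transfer {K' : Type u} [Group K'] (η : K ≃* K') {τ' : K' →* Cfsg.PSU 6 F 2}
    (M : Cov e hF h (τ'.comp η.toMonoidHom) E) : Cov e hF h τ' (fun m => η (E m)) where
  surj y := by
    obtain ⟨x, hx⟩ := M.surj y
    exact ⟨η x, hx⟩
  mul a b := by rw [← map_mul, M.mul]
  conj w v hok x hx m := by
    have := congrArg η (M.conj w v hok (η.symm x) (by simpa using hx) m)
    simpa using this
  map m := M.map m
  cen x hx y := by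
    have := congrArg η (M.cen (η.symm x) (by simpa using hx) (η.symm y))
    simpa using this

theorem inK0_of_gW {k : ℕ} (hk : k < 2048) (h1 : gW e hF h (mW k) = 1) : inK0 k = true := by
  have h2 := List.all_eq_true.1 key_ok.1 k (List.mem_range.2 hk)
  rw [eqW_of_gW e hF h (w' := []) (isoW_mW k) rfl (h1.trans (gW_nil e hF h).symm)] at h2
  simpa using h2

theorem gW_of_inK0 {k : ℕ} (hk : inK0 k = true) : gW e hF h (mW k) = 1 := by
  simp only [inK0, Bool.or_eq_true, Nat.beq_eq] at hk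
  obtain ⟨a, b, d⟩ := key_ok.2
  have he : eqW (mW k) [] = true := by
    rcases hk with rfl | rfl | rfl | rfl
    exacts [by decide +kernel, a, b, d]
  rw [gW_eq e hF h (w' := []) (isoW_mW k) rfl he, gW_nil]

theorem Cov.ker_plane (M : Cov e hF h τ E) {k : ℕ} (hk : k < 2048) : τ (E k) = 1 ↔ inK0 k = true := by
  rw [M.map]
  exact ⟨fun h1 => inK0_of_gW hk (cls_eq_one e hF h (plane_le_syl e hF h (gW_mW_mem e hF h k)) h1),
    fun h1 => by rw [gW_of_inK0 h1, map_one]⟩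

theorem exists_cov₀ {K : Type} [Group K] [Finite K] (e : QField →+* F) (hF : Nat.card F = 2 ^ 2) (h : UFrob σ 2)
    (τ : K →* Cfsg.PSU 6 F 2) (hsurj : Function.Surjective τ) (hcen : ∀ x, τ x = 1 → ∀ y, x * y = y * x)
    (hp : IsPGroup 2 τ.ker) :
    ∃ E : ℕ → K, Cov e hF h τ E ∧ ∀ k ∈ commutator K, τ k = 1 → ∃ m < 2048, inK0 m = true ∧ k ^ 3 = E m := by
  obtain ⟨P, hP⟩ : ∃ P : Subgroup (K × Cfsg.SU 6 F 2),
      P = (τ.comp (MonoidHom.fst _ _)).eqLocus (cls.comp (MonoidHom.snd _ _)) := ⟨_, rfl⟩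
  have hPm : ∀ x, x ∈ P ↔ τ x.1 = cls x.2 := fun x => by rw [hP]; rfl
  obtain ⟨pr, hprd⟩ : ∃ pr : P →* Cfsg.SU 6 F 2, pr = (MonoidHom.snd _ _).comp P.subtype := ⟨_, rfl⟩
  obtain ⟨pl, hpld⟩ : ∃ pl : P →* K, pl = (MonoidHom.fst _ _).comp P.subtype := ⟨_, rfl⟩
  have hpra : ∀ x : P, pr x = x.1.2 := fun x => by rw [hprd]; rfl
  have hpla : ∀ x : P, pl x = x.1.1 := fun x => by rw [hpld]; rfl
  have hk2 : ∀ x : P, pr x = 1 → τ x.1.1 = 1 := fun x hx => by
    rw [(hPm _).1 x.2, ← hpra, hx, map_one]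
  have hce : IsCE pr := by
    refine ⟨fun g => ?_, fun x hx => Subgroup.mem_center_iff.2 fun y => ?_⟩
    · obtain ⟨a, ha⟩ := hsurj (cls g)
      exact ⟨⟨(a, g), (hPm _).2 ha⟩, by rw [hpra]⟩
    · have h2 : x.1.2 = 1 := by rw [← hpra]; exact hx
      refine Subtype.ext (Prod.ext ?_ ?_)
      · exact (hcen _ (hk2 x hx) _).symm
      · show y.1.2 * x.1.2 = x.1.2 * y.1.2
        rw [h2, mul_one, one_mul]
  have hp2 : IsPGroup 2 pr.ker := fun x => by
    obtain ⟨n, hn⟩ := hp ⟨x.1.1.1, hk2 x.1 x.2⟩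
    exact ⟨n, Subtype.ext (Subtype.ext (Prod.ext (congrArg Subtype.val hn :) (by
      show (x.1.1.2) ^ 2 ^ n = 1
      rw [← hpra, MonoidHom.mem_ker.1 x.2, one_pow])))⟩
  obtain ⟨L, hL⟩ := exists_lifts e hF h hce hp2
  refine ⟨fun m => pl (U62Thompson.el e hF h L m), ⟨hsurj, fun a b => ?_, fun w v hwv k hk m => ?_, fun m => ?_, hcen⟩, fun k hk hk1 => ?_⟩
  · rw [← map_mul, el_mul e hF h hL]
  · have := el_conj e hF h hce hL hwv (K := ⟨(k, gW e hF h w), (hPm _).2 hk⟩) (by rw [hpra]) m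
    rw [← this, map_mul, map_mul, map_inv, hpla ⟨(k, gW e hF h w), _⟩]
  · rw [hpla, (hPm _).1 (U62Thompson.el e hF h L m).2, ← hpra, map_el e hF h hL]
  · have hpl : Function.Surjective pl := fun a => by
      obtain ⟨g, hg⟩ := QuotientGroup.mk'_surjective (Subgroup.center (Cfsg.SU 6 F 2)) (τ a)
      exact ⟨⟨(a, g), (hPm _).2 hg.symm⟩, by rw [hpla]⟩
    have hzc : k ∈ (commutator P).map pl := by
      rwa [commutator_def, Subgroup.map_commutator, Subgroup.map_top_of_surjective _ hpl, ← commutator_def]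
    obtain ⟨y, hy, hyd⟩ := hzc
    have h3 : pr (y ^ 3) = 1 := by
      have hc : y.1.2 ∈ Subgroup.center (Cfsg.SU 6 F 2) := by
        refine (QuotientGroup.eq_one_iff _).1 ?_
        have := (hPm _).1 y.2
        rw [← hpla, hyd, hk1] at this
        exact this.symm
      have hk : Nat.card (Subgroup.center (Cfsg.SU 6 F 2)) = 3 := by
        rw [card_center_SU hF (by norm_num)]; norm_num
      have := pow_card_eq_one' (x := (⟨y.1.2, hc⟩ : Subgroup.center (Cfsg.SU 6 F 2)))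
      rw [hk] at this
      rw [map_pow, hpra]
      exact congrArg Subtype.val this
    obtain ⟨m, hm, hme⟩ := mem_liftGrp e hF h hce hL (comm_ker_le e hF h hce hL hp2 (pow_mem hy 3) h3)
    refine ⟨m, hm, inK0_of_gW (e := e) (hF := hF) (h := h) hm ?_, ?_⟩
    · rw [← map_el e hF h hL, ← hme, h3]
    · show k ^ 3 = pl _
      rw [← hme, map_pow, hyd]

/-- A central extension by a `2`-group has such coordinates. -/
theorem exists_cov {K : Type w} [Group K] [Finite K] (e : QField →+* F) (hF : Nat.card F = 2 ^ 2) (h : UFrob σ 2)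
    (τ : K →* Cfsg.PSU 6 F 2) (hsurj : Function.Surjective τ) (hcen : ∀ x, τ x = 1 → ∀ y, x * y = y * x)
    (hp : IsPGroup 2 τ.ker) :
    ∃ E : ℕ → K, Cov e hF h τ E ∧ ∀ k ∈ commutator K, τ k = 1 → ∃ m < 2048, inK0 m = true ∧ k ^ 3 = E m := by
  obtain ⟨K₀, _, _, ⟨η⟩⟩ : ∃ (K₀ : Type) (_ : Group K₀) (_ : Finite K₀), Nonempty (K₀ ≃* K) :=
    ⟨Fin (Nat.card K), (Finite.equivFin _).symm.group, inferInstance, ⟨(Finite.equivFin K).symm.mulEquiv⟩⟩
  obtain ⟨E₀, M₀, hE⟩ := exists_cov₀ (K := K₀) e hF h (τ.comp η.toMonoidHom) (hsurj.comp η.surjective)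
    (fun x hx y => η.injective (by rw [map_mul, map_mul]; exact hcen _ hx _)) (fun x => by
      obtain ⟨n, hn⟩ := hp ⟨η x.1, x.2⟩
      exact ⟨n, Subtype.ext (η.injective (by
        rw [Subgroup.coe_pow, map_pow, Subgroup.coe_one, map_one]
        exact congrArg Subtype.val hn))⟩)
  refine ⟨_, M₀.transfer η, fun k hk hk1 => ?_⟩
  have h1 : η.symm k ∈ commutator K₀ := by
    have h1 : η.symm k ∈ (commutator K).map η.symm.toMonoidHom := ⟨k, hk, rfl⟩
    rwa [commutator_def, Subgroup.map_commutator, Subgroup.map_top_of_surjective _ η.symm.surjective,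
      ← commutator_def] at h1
  obtain ⟨m, hm, hm0, hme⟩ := hE (η.symm k) h1 (by simpa using hk1)
  refine ⟨m, hm, hm0, ?_⟩
  show k ^ 3 = η (E₀ m)
  rw [← hme, map_pow, η.apply_symm_apply]


end CfsgLib.KnownB.Fi22Double
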