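import Cfsg.Agent.Lib.KnownB.Fi22Double.Double

/-!
The twenty-three conjugates of the central involution in the preimage of the plane subgroup.
-/

set_option autoImplicit false
set_option maxRecDepth 20000

noncomputable section

namespace CfsgLib.KnownB.Fi22Double

open Matrix CfsgLib.Classical CfsgLib.Classical.Unitary CfsgLib.Spor CfsgLib.MultSU CfsgLib.KnownB.U62Mult
  CfsgLib.KnownB.U62Thompson

universe u

variable {F : Type} [Field F] {e : QField →+* F} {σ : F →+* F} [Finite F] {hF : Nat.card F = 2 ^ 2}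
  {h : UFrob σ 2} {Cg : Type u} [Group Cg] [Finite Cg] {X : Type u} [Group X] [Finite X]
  {q : Cg →* X} {δ : Cg} {d' : X} {τ : ↥(Subgroup.centralizer ({d'} : Set X)) →* Cfsg.PSU 6 F 2} {c : ℕ}
  {E : ℕ → ↥((Subgroup.centralizer ({d'} : Set X)).comap q)}

theorem Dbl.elem_Ah (D : Dbl e hF h q δ d' τ c E) : Cfsg.IsElementaryAbelian 2 D.Ah :=
  elem_iff.2 ⟨fun _ ha _ hb => D.comm_Ah ha hb, fun _ ha => by rw [pow_two]; exact D.sq_Ah ha⟩

theorem Dbl.card_ker (D : Dbl e hF h q δ d' τ c E) : Nat.card q.ker = 2 := by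
  have h1 : q.ker = Subgroup.zpowers δ := by
    ext x
    rw [MonoidHom.mem_ker, D.ker]
    constructor
    · rintro (r | r) <;> rw [r]
      · exact one_mem _
      · exact Subgroup.mem_zpowers δ
    · intro hx
      obtain ⟨k, rfl⟩ := Subgroup.mem_zpowers_iff.1 hx
      rcases Int.emod_two_eq k with r | r
      · left; rw [← zpow_mod_orderOf, D.ord]; simp [r]
      · right; rw [← zpow_mod_orderOf, D.ord]; simp [r]
  rw [h1, Nat.card_zpowers, D.ord]

theorem Dbl.card_map (D : Dbl e hF h q δ d' τ c E) (B : Subgroup Cg) : Nat.card B ≤ 2 * Nat.card (B.map q) := by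
  have h1 := Subgroup.card_eq_card_quotient_mul_card_subgroup (q.comp B.subtype).ker
  rw [Nat.card_congr (QuotientGroup.quotientKerEquivRange (q.comp B.subtype)).toEquiv, MonoidHom.range_comp,
    Subgroup.range_subtype] at h1
  rw [h1, mul_comm 2]
  refine Nat.mul_le_mul_left _ (D.card_ker ▸ ?_)
  exact Nat.card_le_card_of_injective (fun x => (⟨x.1.1, x.2⟩ : q.ker)) fun a b hab =>
    Subtype.ext (Subtype.ext (congrArg (fun z : q.ker => z.1) hab))

theorem Dbl.card_Ah (D : Dbl e hF h q δ d' τ c E) : Nat.card D.Ah = 2048 := by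
  have h1 := Subgroup.card_mul_index D.Ah
  rw [Dbl.Ah, Subgroup.index_comap_of_surjective _ D.surj] at h1
  have h2 := Subgroup.card_mul_index D.ctx.A0
  rw [D.ctx.card_A0] at h2
  have h3 := Subgroup.card_eq_card_quotient_mul_card_subgroup q.ker
  rw [D.card_ker, Nat.card_congr (QuotientGroup.quotientKerEquivOfSurjective q D.surj).toEquiv, ← h2] at h3
  have hne : D.ctx.A0.index ≠ 0 := Subgroup.index_ne_zero_of_finite
  refine Nat.eq_of_mul_eq_mul_right (Nat.pos_of_ne_zero hne) ?_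
  exact h1.trans (h3.trans (by ring))

/-- Large elementary abelian subgroups are conjugate to the preimage of the plane subgroup. -/
theorem Dbl.unique_conj (D : Dbl e hF h q δ d' τ c E) {B : Subgroup Cg} (hel : Cfsg.IsElementaryAbelian 2 B)
    (hcard : 2048 ≤ Nat.card B) : ∃ g : Cg, B.map (MulAut.conj g).toMonoidHom = D.Ah := by
  obtain ⟨hc, hs⟩ := elem_iff.1 hel
  have helq : Cfsg.IsElementaryAbelian 2 (B.map q) := by
    refine elem_iff.2 ⟨?_, ?_⟩
    · rintro _ ⟨a, ha, rfl⟩ _ ⟨b, hb, rfl⟩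
      rw [← map_mul, ← map_mul, hc a ha b hb]
    · rintro _ ⟨a, ha, rfl⟩
      rw [← map_pow, hs a ha, map_one]
  obtain ⟨x, hx⟩ := D.ctx.unique_conj helq (by have := D.card_map B; omega)
  obtain ⟨g, rfl⟩ := D.surj x
  refine ⟨g, Subgroup.eq_of_le_of_card_ge ?_ (by
    rw [D.card_Ah, Subgroup.card_map_of_injective (MulAut.conj g).injective]; exact hcard)⟩
  rintro _ ⟨b, hb, rfl⟩
  show q _ ∈ D.ctx.A0
  rw [← hx]
  exact ⟨q b, ⟨b, hb, rfl⟩, by simp⟩

/-- every lift is a square -/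
def AllSq (q : Cg →* X) (x : X) : Prop := ∀ y, q y = x → ∃ v, v * v = y

omit [Finite Cg] [Finite X] in
theorem allSq_conj (hs : Function.Surjective q) {g x : X} (hx : AllSq q x) : AllSq q (g * x * g⁻¹) := by
  intro y hy
  obtain ⟨a, rfl⟩ := hs g
  obtain ⟨v, hv⟩ := hx (a⁻¹ * y * a) (by rw [map_mul, map_mul, hy, map_inv]; group)
  exact ⟨a * v * a⁻¹, by rw [show a * v * a⁻¹ * (a * v * a⁻¹) = a * (v * v) * a⁻¹ by group, hv]; group⟩

omit [Finite Cg] [Finite X] in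
theorem allSq_conj_iff (hs : Function.Surjective q) {g x : X} : AllSq q (g * x * g⁻¹) ↔ AllSq q x := by
  refine ⟨fun h1 => ?_, allSq_conj hs⟩
  have := allSq_conj hs (g := g⁻¹) h1
  rwa [show g⁻¹ * (g * x * g⁻¹) * g⁻¹⁻¹ = x by group] at this

theorem pts_distinct {c : ℕ} (hc : c < 3) : ∃ a ∈ pts c, ∃ b ∈ pts c, a ≠ b := by
  obtain ⟨hy, -, -, hlen, -⟩ := yPt_spec hc
  by_contra hno
  push Not at hno
  have h1 : (pts c).length ≤ 1 := by
    rw [← List.toFinset_card_of_nodup (l := pts c) (List.nodup_range.filter _)]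
    exact Finset.card_le_one.2 fun u hu v hv => hno u (List.mem_toFinset.1 hu) v (List.mem_toFinset.1 hv)
  omega

/-- The elements of the plane subgroup other than the identity and the points lift to squares only. -/
theorem Dbl.classify (D : Dbl e hF h q δ d' τ c E) {x : X} (hx : x ∈ D.ctx.A0) :
    x = 1 ∨ D.ctx.IsPt x ∨ AllSq q x := by
  obtain ⟨m, hm, hmc, rfl⟩ := D.ctx.mem_A0.1 hx
  obtain ⟨P, hP⟩ : ∃ P : ℕ → Prop, ∀ m, P m = AllSq q ((Subgroup.centralizer ({d'} : Set X)).subtype (qK q d' (E m))) :=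
    ⟨_, fun _ => rfl⟩
  obtain ⟨hOrb, hCov, -, -, -⟩ := orbit_facts D.ctx.M.lt
  have hcan : ∀ m, P (canZ (zOf c) m) ↔ P m := fun m => by
    rw [hP, hP, D.ctx.M.can]
  have hinv : ∀ g < 7, ∀ m, P (selX (genVec.getD g []) m) ↔ P m := fun g hg m => by
    obtain ⟨U, hU⟩ := D.ctx.M.surj (cls (gW e hF h (gWd g)))
    rw [hP, hP, ← D.ctx.M.conj _ _ (actOK_gen hg) U hU m, map_mul, map_mul, map_inv]
    exact allSq_conj_iff D.surj
  have horb : ∀ i < 5, ∀ m, (orbBits c i).testBit m = true → (P m ↔ P (orbRoot c i)) := by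
    intro i hi
    have h1 := List.all_eq_true.1 hOrb i (List.mem_range.2 hi)
    simp only [Bool.and_eq_true] at h1
    refine growOK_spec hcan hinv _ _ _ h1.1 fun k hk => ?_
    rw [Nat.one_shiftLeft, Nat.testBit_two_pow, decide_eq_true_eq] at hk
    rw [← hk]
    rfl
  have hdisp : ∀ g n, g < 6 → ∃ v : Cg, v * v = (E (n ^^^ selX (genVec.getD g []) n)).1 := fun g n hg => by
    obtain ⟨U, hU⟩ := D.cov.surj (cls (gW e hF h (gWd g)))
    have hc := D.cov.conj _ _ (actOK_gen (by omega : g < 7)) U hU n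
    have hgr : gWd g ∈ rootWords := by
      have key : ∀ g < 6, gWd g ∈ rootWords := by decide
      exact key g hg
    have h2 : q U.1 * q U.1 = 1 := by
      have h3 : τ (qK q d' U * qK q d' U) = 1 := by
        rw [map_mul, show τ (qK q d' U) = _ from hU, ← map_mul, root_sq e hF h hgr, map_one]
      rcases (D.ctx.M.ker _).1 h3 with r | r
      · exact congrArg Subtype.val r
      · exact absurd (IsConj.refl d') (no_square D.ctx.M D.ctx.as (v := qK q d' U) (by rw [r]; rfl))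
    have hU2 : U * U = 1 := Subtype.ext (D.lift_sq h2)
    refine ⟨(E n * U).1, ?_⟩
    rw [← Subgroup.coe_mul]
    refine congrArg Subtype.val ?_
    rw [← D.cov.mul, ← hc, inv_eq_of_mul_eq_one_right hU2]
    group
  have hboth : ∀ i, i = 1 ∨ i = 3 → P (orbRoot c i) := by
    intro i hi
    have hb : bothOK c i = true := by
      rcases hi with rfl | rfl
      · exact (pts_facts D.ctx.M.lt).2.2.1
      · exact (pts_facts D.ctx.M.lt).2.2.2
    simp only [bothOK, Bool.and_eq_true, Nat.blt_eq, Nat.beq_eq] at hb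
    obtain ⟨⟨⟨⟨⟨hbit, hlt⟩, hg1⟩, hg2⟩, he1⟩, he2⟩ := hb
    generalize bothT c i = b at hbit hlt hg1 hg2 he1 he2
    refine (horb i (by rcases hi with rfl | rfl <;> norm_num) _ hbit).1 ?_
    rw [hP]
    intro y hy
    have h1 : q ((E b.1).1⁻¹ * y) = 1 := by rw [map_mul, map_inv, hy, D.qE, inv_mul_cancel]
    rcases (D.ker _).1 h1 with r | r
    · obtain ⟨v, hv⟩ := hdisp _ b.2.1.2 hg1
      refine ⟨v, hv.trans ?_⟩
      rw [show b.2.1.2 ^^^ selX (genVec.getD b.2.1.1 []) b.2.1.2 = b.1 from he1, ← inv_mul_eq_one.1 r]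
    · obtain ⟨v, hv⟩ := hdisp _ b.2.2.2 hg2
      refine ⟨v, hv.trans ?_⟩
      rw [show b.2.2.2 ^^^ selX (genVec.getD b.2.2.1 []) b.2.2.2 = b.1 ^^^ zOf c from he2, ← D.cov.mul,
        Subgroup.coe_mul, D.z_eq, ← r, mul_inv_cancel_left]
  have h13 : ∀ {i m}, i = 1 ∨ i = 3 → (orbBits c i).testBit m = true → P m := fun {i m} hi hm =>
    (horb i (by rcases hi with rfl | rfl <;> norm_num) m hm).2 (hboth i hi)
  obtain ⟨ι, hι⟩ : ∃ ι, ι = (Subgroup.centralizer ({d'} : Set X)).subtype := ⟨_, rfl⟩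
  have hdlt := (zOf_pos D.ctx.M.lt).2.2.1
  have hpair : ∀ {a b}, a ∈ pts c → b ∈ pts c → a ≠ b →
      AllSq q (ι (qK q d' (E a)) * ι (qK q d' (E b))) := fun {a b} ha hb hab => by
    have h1 := h13 (Or.inl rfl) ((pts_spec D.ctx.M.lt ha).2.2.2.2 b hb hab).1
    rw [hcan, hP, ← D.cov.mul, map_mul, map_mul] at h1
    rw [hι]; exact h1
  have h0 : P (orbRoot c 0) := by
    obtain ⟨a, ha, b, hb, hab⟩ := pts_distinct D.ctx.M.lt
    obtain ⟨n, hn, hnd, hnp⟩ := D.ctx.to_pair (D.ctx.pt_iff.2 (Or.inr ⟨a, ha, rfl⟩))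
      (D.ctx.pt_iff.2 (Or.inr ⟨b, hb, rfl⟩)) (fun r => hab (D.ctx.pts_inj ha hb r)) ha
    refine (horb 0 (by norm_num) _ (pts_spec D.ctx.M.lt ha).2.2.2.1).1 ?_
    rw [hcan, hP, ← D.cov.mul, map_mul, map_mul, D.ctx.M.d_eq]
    refine (allSq_conj_iff D.surj (g := n)).1 ?_
    have h1 := hpair hb ha (Ne.symm hab)
    rw [hι] at h1
    convert h1 using 1
    show n * ((Subgroup.centralizer ({d'} : Set X)).subtype (qK q d' (E a)) * d') * n⁻¹ = _
    rw [show ∀ u, n * (u * d') * n⁻¹ = n * u * n⁻¹ * (n * d' * n⁻¹) from fun u => by group, hnp, hnd]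
  have h2 : P (orbRoot c 2) := by
    have hr := (pts_facts D.ctx.M.lt).2.1
    simp only [triCheck, Bool.and_eq_true, List.any_eq_true, Nat.beq_eq, Bool.not_eq_true',
      ← Bool.not_eq_true] at hr
    obtain ⟨⟨⟨⟨⟨⟨⟨a, ha, ea⟩, b, hb, eb⟩, d3, hd3, ed⟩, hab⟩, had⟩, hbd⟩, hroot⟩ := hr
    rw [ea, eb] at hab; rw [ea, ed] at had; rw [eb, ed] at hbd; rw [ea, eb, ed] at hroot
    rw [← hroot, hcan, hP]
    obtain ⟨n, hn, hna⟩ := D.ctx.to_pt (D.ctx.pt_iff.2 (Or.inr ⟨a, ha, rfl⟩))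
    have hother : ∀ {p}, p ∈ pts c → a ≠ p → ∃ p' ∈ pts c, n⁻¹ * ι (qK q d' (E p)) * n = ι (qK q d' (E p')) := by
      intro p hp hap
      have hpt : D.ctx.IsPt (n⁻¹ * ι (qK q d' (E p)) * n) := by
        simpa [hι] using D.ctx.pt_conj (inv_mem hn) (D.ctx.pt_iff.2 (Or.inr ⟨p, hp, rfl⟩))
      rcases D.ctx.pt_iff.1 hpt with r | ⟨p', hp', he⟩
      · refine absurd (D.ctx.pts_inj ha hp ?_) hap
        calc (Subgroup.centralizer ({d'} : Set X)).subtype (qK q d' (E a)) = n * d' * n⁻¹ := hna.symm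
          _ = n * (n⁻¹ * ι (qK q d' (E p)) * n) * n⁻¹ := by rw [r]
          _ = _ := by rw [hι]; group
      · exact ⟨p', hp', by rw [hι] at he ⊢; exact he⟩
    obtain ⟨b', hb', heb⟩ := hother hb hab
    obtain ⟨d3', hd3', hed⟩ := hother hd3 had
    have hne : b' ≠ d3' := fun r => hbd (D.ctx.pts_inj hb hd3 (by
      have : ι (qK q d' (E b)) = ι (qK q d' (E d3)) := by
        have h3 := heb.trans ((congrArg (fun k => ι (qK q d' (E k))) r).trans hed.symm)
        exact mul_left_cancel (mul_right_cancel h3)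
      rwa [hι] at this))
    have h3 := h13 (Or.inr rfl) ((pts_spec D.ctx.M.lt hb').2.2.2.2 d3' hd3' hne).2
    rw [hcan, hP, ← D.cov.mul, ← D.cov.mul, map_mul, map_mul, map_mul, map_mul, D.ctx.M.d_eq] at h3
    refine (allSq_conj_iff D.surj (g := n⁻¹)).1 ?_
    convert h3 using 1
    rw [show ∀ k, (Subgroup.centralizer ({d'} : Set X)).subtype k = ι k from fun k => by rw [hι]] at *
    subst hι
    rw [show Nat.xor (Nat.xor a b) d3 = a ^^^ b ^^^ d3 from rfl, ← D.cov.mul, ← D.cov.mul, map_mul, map_mul,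
      map_mul, map_mul, show (Subgroup.centralizer ({d'} : Set X)).subtype (dpt d') = d' from rfl,
      show ∀ u v w, n⁻¹ * (u * v * w) * n⁻¹⁻¹ = n⁻¹ * u * n * (n⁻¹ * v * n) * (n⁻¹ * w * n) from
        fun u v w => by group, heb, hed, ← hna]
    group
  rcases Nat.eq_zero_or_pos m with rfl | hm0
  · left
    rw [D.cov.zero, map_one, map_one]
  have h1 := List.all_eq_true.1 (by simpa only [coverCheck, forceN_eq] using hCov) m (List.mem_range.2 hm)
  simp only [Nat.testBit_or, Bool.or_eq_true, hmc] at h1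
  rcases h1 with (((((r | r) | r) | r) | r) | r) | r
  · exact Or.inr (Or.inr (hP m ▸ (horb 0 (by norm_num) _ r).2 h0))
  · exact Or.inr (Or.inr (hP m ▸ h13 (Or.inl rfl) r))
  · exact Or.inr (Or.inr (hP m ▸ (horb 2 (by norm_num) _ r).2 h2))
  · exact Or.inr (Or.inr (hP m ▸ h13 (Or.inr rfl) r))
  · exact Or.inr (Or.inl (D.ctx.pt_iff.2 (Or.inr ⟨m, mem_elemsOf.2 ⟨hm, r⟩, rfl⟩)))
  · rw [Nat.testBit_one_eq_true_iff_self_eq_zero] at r
    omega
  · rw [Nat.one_shiftLeft, Nat.testBit_two_pow, decide_eq_true_eq] at r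
    exact Or.inr (Or.inl (D.ctx.pt_iff.2 (Or.inl (r ▸ D.ctx.d_eq))))

variable {G : Type u} [Group G] [Finite G] {j : Cg →* G} {d : G}

theorem Dbl.no_square_G (D : Dbl e hF h q δ d' τ c E) (hA : AsCent j δ d) {v : Cg} (hv : IsConj d (j (v * v))) :
    False := by
  obtain ⟨g, hg⟩ := isConj_iff.1 hv
  have h2 : g⁻¹ * j v * g * (g⁻¹ * j v * g) = d := by
    rw [show g⁻¹ * j v * g * (g⁻¹ * j v * g) = g⁻¹ * (j v * j v) * g by group, ← map_mul, ← hg]
    group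
  obtain ⟨w, hw⟩ := (hA.range (g⁻¹ * j v * g)).2 (by
    conv_lhs => rw [← h2]
    conv_rhs => rw [← h2]
    group)
  exact D.not_sq w (hA.inj (by rw [map_mul, hw, h2, hA.image]))

/-- Conjugates of the involution are moved by the normaliser. -/
theorem Dbl.exists_norm (D : Dbl e hF h q δ d' τ c E) (hA : AsCent j δ d) {y : G} (hy : y ∈ D.Ah.map j)
    (hconj : IsConj d y) : ∃ n ∈ Subgroup.normalizer ((D.Ah.map j : Subgroup G) : Set G), n * d * n⁻¹ = y := by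
  obtain ⟨g, hg⟩ := isConj_iff.1 hconj
  have hle : (D.Ah.map j).map (MulAut.conj g⁻¹).toMonoidHom ≤ j.range := by
    rintro _ ⟨x, ⟨a, ha, rfl⟩, rfl⟩
    refine (hA.range _).2 ?_
    obtain ⟨b, hb, hby⟩ := hy
    have hab : j a * y = y * j a := by rw [← hby, ← map_mul, ← map_mul, D.comm_Ah ha hb]
    rw [← hg] at hab
    show g⁻¹ * j a * g⁻¹⁻¹ * d = d * (g⁻¹ * j a * g⁻¹⁻¹)
    calc g⁻¹ * j a * g⁻¹⁻¹ * d = g⁻¹ * (j a * (g * d * g⁻¹)) * g := by group
      _ = g⁻¹ * (g * d * g⁻¹ * j a) * g := by rw [hab]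
      _ = d * (g⁻¹ * j a * g⁻¹⁻¹) := by group
  obtain ⟨B, hB⟩ : ∃ B, B = ((D.Ah.map j).map (MulAut.conj g⁻¹).toMonoidHom).comap j := ⟨_, rfl⟩
  have hBmap : B.map j = (D.Ah.map j).map (MulAut.conj g⁻¹).toMonoidHom := by
    rw [hB, Subgroup.map_comap_eq_self hle]
  have hcard : Nat.card B = 2048 := by
    rw [← Subgroup.card_map_of_injective hA.inj, hBmap, Subgroup.card_map_of_injective (MulAut.conj g⁻¹).injective,
      Subgroup.card_map_of_injective hA.inj, D.card_Ah]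
  have hel : Cfsg.IsElementaryAbelian 2 B := by
    obtain ⟨hc, hs⟩ := elem_iff.1 D.elem_Ah
    refine elem_iff.2 ⟨fun a ha b hb => hA.inj ?_, fun a ha => hA.inj ?_⟩
    · rw [hB] at ha hb
      obtain ⟨_, ⟨x, hx, rfl⟩, hxa⟩ := ha
      obtain ⟨_, ⟨x', hx', rfl⟩, hxb⟩ := hb
      rw [map_mul, map_mul, ← hxa, ← hxb, ← map_mul, ← map_mul, ← map_mul, ← map_mul, hc x hx x' hx']
    · rw [hB] at ha
      obtain ⟨_, ⟨x, hx, rfl⟩, hxa⟩ := ha
      rw [map_pow, ← hxa, ← map_pow, ← map_pow, hs x hx, map_one, map_one]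
  obtain ⟨a, ha⟩ := D.unique_conj hel hcard.ge
  obtain ⟨n, hn⟩ : ∃ n, n = g * (j a)⁻¹ := ⟨_, rfl⟩
  have hfwd : (D.Ah.map j).map (MulAut.conj n).toMonoidHom = D.Ah.map j := by
    have h1 : D.Ah.map j = (B.map j).map (MulAut.conj (j a)).toMonoidHom := by
      rw [← ha, Subgroup.map_map, Subgroup.map_map]
      congr 1
      ext x
      simp
    conv_lhs => rw [h1, hBmap]
    rw [Subgroup.map_map, Subgroup.map_map]
    refine (congrArg (fun f => Subgroup.map f (D.Ah.map j)) (?_ : _ = MonoidHom.id G)).trans (Subgroup.map_id _)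
    ext x
    rw [hn]
    simp [mul_assoc]
  refine ⟨n, Subgroup.mem_normalizer_iff.2 fun x => ⟨fun hx => ?_, fun hx => ?_⟩, ?_⟩
  · exact hfwd ▸ ⟨x, hx, rfl⟩
  · rw [← hfwd] at hx
    obtain ⟨z, hz, hze⟩ := hx
    rwa [← (MulAut.conj n).injective hze]
  · rw [hn, show g * (j a)⁻¹ * d * (g * (j a)⁻¹)⁻¹ = g * ((j a)⁻¹ * (d * j a)) * g⁻¹ by group,
      ← (hA.range _).1 ⟨a, rfl⟩, inv_mul_cancel_left, hg]

/-- The conjugates of the involution in the preimage of the plane subgroup lie over points. -/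
theorem Dbl.pt_or_eq (D : Dbl e hF h q δ d' τ c E) (hA : AsCent j δ d) {y : Cg} (hy : y ∈ D.Ah)
    (hc : IsConj d (j y)) : y = δ ∨ D.ctx.IsPt (q y) := by
  rcases D.classify (show q y ∈ D.ctx.A0 from hy) with r | r | r
  · rcases (D.ker y).1 r with r' | r'
    · exfalso
      rw [r', map_one, isConj_comm, isConj_one_right, ← hA.image, ← map_one j] at hc
      have := D.ord
      rw [hA.inj hc, orderOf_one] at this
      omega
    · exact Or.inl r'
  · exact Or.inr r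
  · obtain ⟨v, hv⟩ := r y rfl
    exact (D.no_square_G hA (v := v) (hv.symm ▸ hc)).elim

/-- Lifts of the normaliser move the points transitively. -/
theorem Dbl.move (D : Dbl e hF h q δ d' τ c E) {x x' : X} (hx : D.ctx.IsPt x) (hx' : D.ctx.IsPt x') :
    ∃ a : Cg, q a ∈ D.ctx.N ∧ q a * x * (q a)⁻¹ = x' := by
  obtain ⟨n, hn, hnx⟩ := D.ctx.to_pt hx
  obtain ⟨n', hn', hnx'⟩ := D.ctx.to_pt hx'
  obtain ⟨a, ha⟩ := D.surj (n' * n⁻¹)
  refine ⟨a, ha ▸ mul_mem hn' (inv_mem hn), ?_⟩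
  rw [ha, ← hnx, ← hnx']
  group

theorem Dbl.conj_Ah (D : Dbl e hF h q δ d' τ c E) {a y : Cg} (ha : q a ∈ D.ctx.N) (hy : y ∈ D.Ah) :
    a * y * a⁻¹ ∈ D.Ah := by
  show q (a * y * a⁻¹) ∈ D.ctx.A0
  rw [map_mul, map_mul, map_inv]
  exact D.ctx.conj_mem ha hy

/-- A conjugate of the involution lies over each point. -/
theorem Dbl.exists_lift (D : Dbl e hF h q δ d' τ c E) (hA : AsCent j δ d)
    (hwc : ∃ g : G, g * d * g⁻¹ ∈ j.range ∧ g * d * g⁻¹ ≠ d) {x : X} (hx : D.ctx.IsPt x) :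
    ∃ y ∈ D.Ah, IsConj d (j y) ∧ q y = x := by
  obtain ⟨g, ⟨v, hv⟩, hg2⟩ := hwc
  have hd2 : d * d = 1 := by rw [← hA.image, ← map_mul, D.sq_δ, map_one]
  have hvv : v * v = 1 := hA.inj (by
    rw [map_mul, hv, show g * d * g⁻¹ * (g * d * g⁻¹) = g * (d * d) * g⁻¹ by group, hd2, map_one]
    group)
  obtain ⟨x0, hx0⟩ := D.ctx.conj_into (t := q v) (by rw [← map_mul, hvv, map_one])
  obtain ⟨a, rfl⟩ := D.surj x0
  have hy0 : a * v * a⁻¹ ∈ D.Ah := show q (a * v * a⁻¹) ∈ D.ctx.A0 by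
    rw [map_mul, map_mul, map_inv]; exact hx0
  have hc0 : IsConj d (j (a * v * a⁻¹)) :=
    isConj_iff.2 ⟨j a * g, by rw [map_mul, map_mul, map_inv, hv]; group⟩
  have hpt := (D.pt_or_eq hA hy0 hc0).resolve_left fun r => by
    refine hg2 (hv.symm.trans (hA.image ▸ congrArg j ?_))
    calc v = a⁻¹ * (a * v * a⁻¹) * a := by group
      _ = a⁻¹ * (δ * a) := by rw [r]; group
      _ = δ := by rw [D.central a]; group
  obtain ⟨b, hb, hbq⟩ := D.move hpt hx
  refine ⟨b * (a * v * a⁻¹) * b⁻¹, D.conj_Ah hb hy0, hc0.trans (isConj_iff.2 ⟨j b, by simp⟩), ?_⟩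
  rw [map_mul, map_mul, map_inv, hbq]

/-- The product of a point and the involution is neither the identity nor a point. -/
theorem Dbl.pair_not_pt (D : Dbl e hF h q δ d' τ c E) {p : ℕ} (hp : p ∈ pts c) :
    (Subgroup.centralizer ({d'} : Set X)).subtype (qK q d' (E p)) * d' ≠ 1 ∧
      ¬ D.ctx.IsPt ((Subgroup.centralizer ({d'} : Set X)).subtype (qK q d' (E p)) * d') := by
  obtain ⟨hplt, -, -, hp0, -⟩ := pts_spec D.ctx.M.lt hp
  refine ⟨fun h1 => D.ctx.pts_ne hp ?_, fun r => ?_⟩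
  · calc _ = (Subgroup.centralizer ({d'} : Set X)).subtype (qK q d' (E p)) * d' * d'⁻¹ := by group
      _ = d' := by rw [h1, one_mul, inv_eq_of_mul_eq_one_right (D.ctx.sq_A0 D.ctx.d_mem)]
  have heq : (Subgroup.centralizer ({d'} : Set X)).subtype (qK q d' (E p)) * d' =
      (Subgroup.centralizer ({d'} : Set X)).subtype (qK q d' (E (p ^^^ dOf c))) := by
    rw [← D.cov.mul, map_mul, map_mul, D.ctx.M.d_eq]
    rfl
  rw [heq] at r
  rcases D.ctx.pt_iff.1 r with r' | ⟨p', hp', r'⟩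
  · have h4 := (D.ctx.E_eq (xor_lt hplt (zOf_pos D.ctx.M.lt).2.2.1) (zOf_pos D.ctx.M.lt).2.2.1).1
      (r'.trans D.ctx.d_eq.symm)
    rw [(zOf_pos D.ctx.M.lt).2.2.2.2.2] at h4
    rw [h4] at hp0
    have hcase : ∀ c < 3, (orbBits c 0).testBit (dOf c) = false := by decide +kernel
    rw [hcase c D.ctx.M.lt] at hp0
    exact Bool.false_ne_true hp0
  · have h4 := (D.ctx.E_eq (xor_lt hplt (zOf_pos D.ctx.M.lt).2.2.1) (pts_spec D.ctx.M.lt hp').1).1 r'
    rw [(pts_spec D.ctx.M.lt hp').2.1] at h4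
    rw [h4] at hp0
    have hcase : ∀ c < 3, ∀ k ∈ pts c, (orbBits c 0).testBit k = false := by decide +kernel
    rw [hcase c D.ctx.M.lt p' hp'] at hp0
    exact Bool.false_ne_true hp0

/-- There are `23` conjugates of the involution in the preimage of the plane subgroup. -/
theorem Dbl.count (D : Dbl e hF h q δ d' τ c E) (hA : AsCent j δ d)
    (hwc : ∃ g : G, g * d * g⁻¹ ∈ j.range ∧ g * d * g⁻¹ ≠ d) :
    Set.ncard {x : G | x ∈ D.Ah.map j ∧ IsConj d x} = 23 := by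
  classical
  obtain ⟨Ω, hΩ⟩ : ∃ Ω : Set Cg, Ω = {y | y ∈ D.Ah ∧ IsConj d (j y)} := ⟨_, rfl⟩
  have hΩm : ∀ y, y ∈ Ω ↔ y ∈ D.Ah ∧ IsConj d (j y) := fun y => by rw [hΩ]; exact Iff.rfl
  have himg : {x : G | x ∈ D.Ah.map j ∧ IsConj d x} = j '' Ω := by
    ext x
    constructor
    · rintro ⟨⟨y, hy, rfl⟩, hx⟩
      exact ⟨y, (hΩm y).2 ⟨hy, hx⟩, rfl⟩
    · rintro ⟨y, hy, rfl⟩
      exact ⟨Subgroup.mem_map_of_mem j ((hΩm y).1 hy).1, ((hΩm y).1 hy).2⟩
  rw [himg, Set.ncard_image_of_injective _ hA.inj]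
  have hδ1 : δ ≠ 1 := fun r => by have := D.ord; rw [r, orderOf_one] at this; omega
  have hqδ : q δ = 1 := (D.ker δ).2 (Or.inr rfl)
  have hδA : δ ∈ D.Ah := show q δ ∈ D.ctx.A0 from hqδ ▸ one_mem _
  have hδΩ : δ ∈ Ω := (hΩm _).2 ⟨hδA, hA.image ▸ IsConj.refl d⟩
  have hpt : ∀ y ∈ Ω, y = δ ∨ D.ctx.IsPt (q y) := fun y hy =>
    D.pt_or_eq hA ((hΩm y).1 hy).1 ((hΩm y).1 hy).2
  -- lifts of the normaliser act
  have hmove : ∀ {a : Cg} {y}, q a ∈ D.ctx.N → y ∈ Ω → a * y * a⁻¹ ∈ Ω := fun {a y} ha hy => by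
    refine (hΩm _).2 ⟨?_, ((hΩm y).1 hy).2.trans (isConj_iff.2 ⟨j a, by simp⟩)⟩
    show q (a * y * a⁻¹) ∈ D.ctx.A0
    rw [map_mul, map_mul, map_inv]
    exact D.ctx.conj_mem ha ((hΩm y).1 hy).1
  have hptmove : ∀ {x x' : X}, D.ctx.IsPt x → D.ctx.IsPt x' → ∀ y ∈ Ω, q y = x →
      ∃ a : Cg, a * y * a⁻¹ ∈ Ω ∧ q (a * y * a⁻¹) = x' ∧ (y * δ ∈ Ω → a * y * a⁻¹ * δ ∈ Ω) := by
    intro x x' hx hx' y hy hyx
    obtain ⟨n, hn, hnx⟩ := D.ctx.to_pt hx
    obtain ⟨n', hn', hnx'⟩ := D.ctx.to_pt hx'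
    obtain ⟨a, ha⟩ := D.surj (n' * n⁻¹)
    have haN : q a ∈ D.ctx.N := ha ▸ mul_mem hn' (inv_mem hn)
    refine ⟨a, hmove haN hy, ?_, fun hyd => ?_⟩
    · rw [map_mul, map_mul, map_inv, ha, hyx, ← hnx, ← hnx']
      group
    · have := hmove haN hyd
      rwa [show a * (y * δ) * a⁻¹ = a * y * (δ * a⁻¹) by group, D.central, ← mul_assoc] at this
  have hlift : ∀ {x}, D.ctx.IsPt x → ∃ y ∈ Ω, q y = x := fun {x} hx => by
    obtain ⟨y, hy, hc, hyq⟩ := D.exists_lift hA hwc hx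
    exact ⟨y, (hΩm y).2 ⟨hy, hc⟩, hyq⟩
  -- never both lifts
  have hone : ∀ y ∈ Ω, y * δ ∈ Ω → y = δ := by
    intro y hy hyd
    by_contra hne
    have hy' := (hpt y hy).resolve_left hne
    have hall : ∀ z ∈ Ω, z ≠ δ → z * δ ∈ Ω := by
      intro z hz hzne
      obtain ⟨b, hb, hbq, hbd⟩ := hptmove hy' ((hpt z hz).resolve_left hzne) y hy rfl
      have hbd' := hbd hyd
      rcases (D.ker (z⁻¹ * (b * y * b⁻¹))).1 (by rw [map_mul, map_inv, hbq, inv_mul_cancel]) with r | r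
      · rwa [inv_mul_eq_one.1 r]
      · rw [show b * y * b⁻¹ = z * δ by rw [← r, mul_inv_cancel_left]] at hb
        exact hb
    obtain ⟨c0, hc0, hc0q⟩ := hlift D.ctx.d_pt
    obtain ⟨n, hn, hnd⟩ := D.exists_norm hA (Subgroup.mem_map_of_mem j ((hΩm c0).1 hc0).1) ((hΩm c0).1 hc0).2
    obtain ⟨p, hp, -⟩ := pts_distinct D.ctx.M.lt
    obtain ⟨w, hw, hwq⟩ := hlift (D.ctx.pt_iff.2 (Or.inr ⟨p, hp, rfl⟩))
    rw [Subgroup.mem_normalizer_iff] at hn
    have hback : n⁻¹ * j w * n ∈ D.Ah.map j :=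
      (hn _).2 (by rw [show n * (n⁻¹ * j w * n) * n⁻¹ = j w by group]; exact Subgroup.mem_map_of_mem j ((hΩm w).1 hw).1)
    obtain ⟨z, hz, hze⟩ := hback
    have hzΩ : z ∈ Ω := (hΩm z).2 ⟨hz, ((hΩm w).1 hw).2.trans (isConj_iff.2 ⟨n⁻¹, by rw [hze]; group⟩)⟩
    have hzne : z ≠ δ := fun r => by
      rw [r, hA.image] at hze
      have hwc0 : w = c0 := hA.inj (by rw [← hnd, hze]; group)
      rw [hwc0, hc0q] at hwq
      exact D.ctx.pts_ne hp hwq.symm
    have hzd := hall z hzΩ hzne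
    have h1 : n * j (z * δ) * n⁻¹ = j (w * c0) := by
      rw [map_mul, map_mul, hA.image, hze, show n * (n⁻¹ * j w * n * d) * n⁻¹ = j w * (n * d * n⁻¹) by group, hnd]
    have hwc : w * c0 ∈ Ω := (hΩm _).2 ⟨mul_mem ((hΩm w).1 hw).1 ((hΩm c0).1 hc0).1,
      ((hΩm _).1 hzd).2.trans (isConj_iff.2 ⟨n, h1⟩)⟩
    rcases hpt _ hwc with r | r
    · have h2 := congrArg q r
      rw [hqδ, map_mul, hwq, hc0q] at h2
      exact (D.pair_not_pt hp).1 h2
    · rw [map_mul, hwq, hc0q] at r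
      exact (D.pair_not_pt hp).2 r
  have hins : Ω = insert δ (Ω \ {δ}) := by rw [Set.insert_sdiff_singleton, Set.insert_eq_of_mem hδΩ]
  rw [hins, Set.ncard_insert_of_notMem (by simp) (Set.toFinite _)]
  have hcnt : (Ω \ {δ}).ncard = {x : X | D.ctx.IsPt x}.ncard := by
    refine Set.ncard_congr (fun y _ => q y) (fun y hy => (hpt y hy.1).resolve_left hy.2) (fun y z hy hz he => ?_)
      (fun x hx => ?_)
    · have hqq : q y = q z := he
      rcases (D.ker (y⁻¹ * z)).1 (by rw [map_mul, map_inv, hqq, inv_mul_cancel]) with r | r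
      · exact inv_mul_eq_one.1 r
      · refine absurd (hone y hy.1 ?_) hy.2
        rw [show y * δ = z by rw [← r, mul_inv_cancel_left]]
        exact hz.1
    · obtain ⟨y, hy, hyq⟩ := hlift hx
      refine ⟨y, ⟨hy, fun r => ?_⟩, hyq⟩
      rw [Set.mem_singleton_iff] at r
      rw [r, hqδ] at hyq
      have h1 := (hx : D.ctx.IsPt x).2
      rw [← hyq, isConj_comm, isConj_one_right] at h1
      have h2 := D.ctx.M.ord
      rw [show dpt d' = 1 from Subtype.ext h1, orderOf_one] at h2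
      omega
  rw [hcnt, show {x : X | D.ctx.IsPt x}.ncard = 22 from conj_count D.ctx.M D.ctx.as D.ctx.wc]

/-- The Thompson subgroup is a conjugate of the preimage of the plane subgroup. -/
theorem Dbl.thompson (D : Dbl e hF h q δ d' τ c E) (S : Sylow 2 Cg) :
    ∃ a : Cg, Cfsg.thompsonSubgroupOf 2 (S : Subgroup Cg) = D.Ah.map (MulAut.conj a).toMonoidHom := by
  haveI := Fact.mk Nat.prime_two
  obtain ⟨x, hx⟩ := D.ctx.into_N (B := (S : Subgroup Cg).map q) (S.isPGroup'.map q)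
  obtain ⟨a, rfl⟩ := D.surj x
  obtain ⟨ha, hain⟩ : ∃ ha : Cg →* Cg, ha = (MulAut.conj a).toMonoidHom := ⟨_, rfl⟩
  have hainj : Function.Injective ha := by rw [hain]; exact (MulAut.conj a).injective
  have hsN : (S : Subgroup Cg).map ha ≤ D.ctx.N.comap q := by
    rintro _ ⟨s, hs, rfl⟩
    show q (ha s) ∈ D.ctx.N
    refine hx ⟨q s, ⟨s, hs, rfl⟩, ?_⟩
    rw [hain]; simp
  have hA2 : IsPGroup 2 D.Ah := fun y => ⟨1, Subtype.ext (by
    rw [Subgroup.coe_pow, pow_one, pow_two]; exact D.sq_Ah y.2)⟩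
  have hnorm : (S : Subgroup Cg).map ha ≤ Subgroup.normalizer ((D.Ah : Subgroup Cg) : Set Cg) := fun y hy => by
    rw [Subgroup.mem_normalizer_iff]
    intro z
    have h1 : q y ∈ D.ctx.N := hsN hy
    rw [Ctx.N, Subgroup.mem_normalizer_iff] at h1
    have h2 := h1 (q z)
    rw [← map_inv, ← map_mul, ← map_mul] at h2
    exact h2
  have hAS : D.Ah ≤ (S : Subgroup Cg).map ha := by
    have hSS : (S : Subgroup Cg).map ha = ((a • S : Sylow 2 Cg) : Subgroup Cg) := by rw [hain]; rfl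
    have h1 : IsPGroup 2 ↥((S : Subgroup Cg).map ha ⊔ D.Ah) :=
      IsPGroup.to_sup_of_normal_right' (S.isPGroup'.map ha) hA2 hnorm
    have h2 := (a • S : Sylow 2 Cg).is_maximal' h1 (hSS ▸ le_sup_left)
    calc D.Ah ≤ (S : Subgroup Cg).map ha ⊔ D.Ah := le_sup_right
      _ = _ := h2.trans hSS.symm
  obtain ⟨T, hT⟩ : ∃ T : Subgroup Cg, T = D.Ah.map (MulAut.conj a⁻¹).toMonoidHom := ⟨_, rfl⟩
  have hTS : T ≤ (S : Subgroup Cg) := by
    rw [hT]
    rintro _ ⟨y, hy, rfl⟩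
    obtain ⟨s, hs, hse⟩ := hAS hy
    rw [← hse, hain]
    have he : (MulAut.conj a⁻¹).toMonoidHom ((MulAut.conj a).toMonoidHom s) = s := by simp [mul_assoc]
    rw [he]
    exact hs
  refine ⟨a⁻¹, ?_⟩
  rw [← hT]
  have hTel : Cfsg.IsElementaryAbelian 2 (T.subgroupOf (S : Subgroup Cg)) := by
    obtain ⟨hc, hs⟩ := elem_iff.1 (hT ▸ elem_conj D.elem_Ah a⁻¹ : Cfsg.IsElementaryAbelian 2 T)
    exact elem_iff.2 ⟨fun x hx y hy => Subtype.ext (hc _ hx _ hy),
      fun x hx => Subtype.ext (hs _ hx)⟩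
  have hTc : Nat.card (T.subgroupOf (S : Subgroup Cg)) = 2048 := by
    rw [Nat.card_congr (Subgroup.subgroupOfEquivOfLe hTS).toEquiv, hT,
      Subgroup.card_map_of_injective (MulAut.conj a⁻¹).injective, D.card_Ah]
  have huniq : ∀ B : Subgroup ↥(S : Subgroup Cg), Cfsg.IsElementaryAbelian 2 B → 2048 ≤ Nat.card B →
      B = T.subgroupOf (S : Subgroup Cg) := by
    intro B hel hc
    obtain ⟨hcB, hsB⟩ := elem_iff.1 hel
    obtain ⟨B', hB'⟩ : ∃ B', B' = (B.map (S : Subgroup Cg).subtype).map ha := ⟨_, rfl⟩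
    have hB'el : Cfsg.IsElementaryAbelian 2 (B'.map q) := by
      rw [hB', Subgroup.map_map, Subgroup.map_map]
      refine elem_iff.2 ⟨?_, ?_⟩
      · rintro _ ⟨y, hy, rfl⟩ _ ⟨y', hy', rfl⟩
        rw [← map_mul, ← map_mul, hcB y hy y' hy']
      · rintro _ ⟨y, hy, rfl⟩
        rw [← map_pow, hsB y hy, map_one]
    have hinj : Function.Injective (ha.comp (S : Subgroup Cg).subtype) := hainj.comp (Subgroup.subtype_injective _)
    have hB'c : 2048 ≤ Nat.card B' := by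
      rw [hB', Subgroup.map_map, Subgroup.card_map_of_injective hinj]; exact hc
    have h1 := D.ctx.unique (B := B'.map q) (by
        rintro _ ⟨y, hy, rfl⟩
        rw [hB'] at hy
        obtain ⟨s, hs, rfl⟩ := hy
        obtain ⟨s', -, rfl⟩ := hs
        exact hsN ⟨s', s'.2, rfl⟩)
      hB'el (by have := D.card_map B'; omega)
    have h2 : B' = D.Ah := Subgroup.eq_of_le_of_card_ge (fun y hy => show q y ∈ D.ctx.A0 from h1 ▸ ⟨y, hy, rfl⟩)
      (D.card_Ah.trans_le hB'c)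
    refine Subgroup.map_injective (Subgroup.subtype_injective _) ?_
    rw [Subgroup.subgroupOf_map_subtype, inf_eq_left.2 hTS, hT, ← h2, hB', Subgroup.map_map, Subgroup.map_map, hain]
    congr 1
    ext y
    simp [mul_assoc]
  have hmax : Cfsg.maxElementaryAbelianSubgroups 2 ↥(S : Subgroup Cg) = {T.subgroupOf (S : Subgroup Cg)} := by
    refine Set.eq_singleton_iff_unique_mem.2 ⟨⟨hTel, fun B hB => ?_⟩, fun B hB => huniq B hB.1 ?_⟩
    · rcases Nat.lt_or_ge (Nat.card B) 2048 with r | r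
      · exact hTc.symm ▸ r.le
      · rw [huniq B hB r]
    · exact hTc ▸ hB.2 _ hTel
  show (sSup (Cfsg.maxElementaryAbelianSubgroups 2 ↥(S : Subgroup Cg))).map (S : Subgroup Cg).subtype = T
  rw [hmax, sSup_singleton, Subgroup.subgroupOf_map_subtype, inf_eq_left.2 hTS]

end CfsgLib.KnownB.Fi22Double
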