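import Cfsg.Agent.Lib.KnownB.Fi22Double.Sign

/-!
A perfect double cover of a group with an involution whose centraliser is a double cover of `PSU₆(2)`:
the preimage of the plane subgroup is elementary abelian, involutions lift, and the double cover is
non-split over the centraliser of the involution.
-/

set_option autoImplicit false
set_option maxRecDepth 20000

noncomputable section

namespace CfsgLib.KnownB.Fi22Double

open Matrix CfsgLib.Classical CfsgLib.Classical.Unitary CfsgLib.Spor CfsgLib.MultSU CfsgLib.KnownB.U62Mult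
  CfsgLib.KnownB.U62Thompson
open scoped commutatorElement

universe u

variable {F : Type} [Field F] {e : QField →+* F} {σ : F →+* F} [Finite F] {hF : Nat.card F = 2 ^ 2}
  {h : UFrob σ 2} {Cg : Type u} [Group Cg] {X : Type u} [Group X]

/-- the restriction to the preimage of the centraliser -/
def qK (q : Cg →* X) (d' : X) :
    ↥((Subgroup.centralizer ({d'} : Set X)).comap q) →* ↥(Subgroup.centralizer ({d'} : Set X)) :=
  (q.comp ((Subgroup.centralizer ({d'} : Set X)).comap q).subtype).codRestrict _ fun x => x.2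

/-- the involution in its centraliser -/
def dpt (d' : X) : ↥(Subgroup.centralizer ({d'} : Set X)) :=
  ⟨d', Subgroup.mem_centralizer_singleton_iff.2 rfl⟩

/-- the data -/
structure Dbl (e : QField →+* F) (hF : Nat.card F = 2 ^ 2) (h : UFrob σ 2) (q : Cg →* X) (δ : Cg) (d' : X)
    (τ : ↥(Subgroup.centralizer ({d'} : Set X)) →* Cfsg.PSU 6 F 2) (c : ℕ)
    (E : ℕ → ↥((Subgroup.centralizer ({d'} : Set X)).comap q)) : Prop where
  surj : Function.Surjective q
  ker : ∀ x, q x = 1 ↔ x = 1 ∨ x = δ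
  ord : orderOf δ = 2
  central : ∀ x, δ * x = x * δ
  perf : commutator Cg = ⊤
  perfH : commutator ↥(Subgroup.centralizer ({d'} : Set X)) = ⊤
  ctx : Ctx e hF h τ (dpt d') c (fun m => qK q d' (E m)) (Subgroup.centralizer ({d'} : Set X)).subtype d'
  cov : Cov e hF h (τ.comp (qK q d')) E
  comm : ∀ k ∈ commutator ↥((Subgroup.centralizer ({d'} : Set X)).comap q), τ (qK q d' k) = 1 →
    ∃ m < 2048, inK0 m = true ∧ k ^ 3 = E m

variable {q : Cg →* X} {δ : Cg} {d' : X}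

/-- Existence of the data. -/
theorem exists_dbl [Finite Cg] [Finite X] (e : QField →+* F) (hF : Nat.card F = 2 ^ 2) (h : UFrob σ 2)
    (hsurj : Function.Surjective q) (hker : ∀ x, q x = 1 ↔ x = 1 ∨ x = δ) (hord : orderOf δ = 2)
    (hcen : ∀ x, δ * x = x * δ) (hperf : commutator Cg = ⊤) (hd' : orderOf d' = 2)
    (hperfH : commutator ↥(Subgroup.centralizer ({d'} : Set X)) = ⊤)
    (τ : ↥(Subgroup.centralizer ({d'} : Set X)) →* Cfsg.PSU 6 F 2) (hτ : Function.Surjective τ)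
    (hτk : ∀ x, τ x = 1 ↔ x = 1 ∨ x = dpt d')
    (hwc : ∃ g, g * d' * g⁻¹ ∈ Subgroup.centralizer ({d'} : Set X) ∧ g * d' * g⁻¹ ≠ d') :
    ∃ c E, Dbl e hF h q δ d' τ c E := by
  obtain ⟨K, hK⟩ : ∃ K, K = (Subgroup.centralizer ({d'} : Set X)).comap q := ⟨_, rfl⟩
  subst hK
  have hδ2 : δ * δ = 1 := by rw [← pow_two, ← hord]; exact pow_orderOf_eq_one δ
  have hqs : Function.Surjective (qK q d') := fun y => by
    obtain ⟨x, hx⟩ := hsurj y.1
    exact ⟨⟨x, show q x ∈ _ from hx ▸ y.2⟩, Subtype.ext hx⟩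
  have hqk : ∀ x, qK q d' x = 1 ↔ x.1 = 1 ∨ x.1 = δ := fun x => by
    rw [← hker]; exact ⟨fun hx => congrArg Subtype.val hx, fun hx => Subtype.ext hx⟩
  have hdc : ∀ x : ↥(Subgroup.centralizer ({d'} : Set X)), dpt d' * x = x * dpt d' := fun x =>
    Subtype.ext (Subgroup.mem_centralizer_singleton_iff.1 x.2).symm
  have hd2 : dpt d' * dpt d' = 1 := Subtype.ext (by
    show d' * d' = 1
    rw [← pow_two, ← hd']; exact pow_orderOf_eq_one d')
  have hp : IsPGroup 2 (τ.comp (qK q d')).ker := fun x => by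
    refine ⟨2, Subtype.ext ?_⟩
    have h1 : qK q d' (x.1 * x.1) = 1 := by
      rw [map_mul]
      rcases (hτk _).1 x.2 with r | r <;> rw [r]
      · exact one_mul _
      · exact hd2
    show x.1 ^ 2 ^ 2 = 1
    rw [show 2 ^ 2 = 2 * 2 from rfl, pow_mul, pow_two x.1, pow_two]
    refine Subtype.ext ?_
    rw [Subgroup.coe_mul, Subgroup.coe_one]
    rcases (hqk _).1 h1 with r | r <;> rw [r]
    · exact one_mul _
    · exact hδ2
  have hKc : ∀ x, τ (qK q d' x) = 1 → ∀ y, x * y = y * x := by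
    intro x hx
    have hz : ∀ y, qK q d' ⁅y, x⁆ = 1 := fun y => by
      rw [map_commutatorElement, commutatorElement_eq_one_iff_mul_comm]
      rcases (hτk _).1 hx with r | r <;> rw [r]
      · rw [mul_one, one_mul]
      · exact (hdc _).symm
    have hzc : ∀ y v, ⁅y, x⁆ * v = v * ⁅y, x⁆ := fun y v => by
      refine Subtype.ext ?_
      rcases (hqk _).1 (hz y) with r | r <;> rw [Subgroup.coe_mul, Subgroup.coe_mul, r]
      · rw [one_mul, mul_one]
      · exact hcen _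
    obtain ⟨Z, hZ⟩ : ∃ Z, Z = Subgroup.centralizer ({x} : Set ↥((Subgroup.centralizer ({d'} : Set X)).comap q)) :=
      ⟨_, rfl⟩
    have hc : commutator ↥((Subgroup.centralizer ({d'} : Set X)).comap q) ≤ Z := by
      rw [commutator_def, Subgroup.commutator_le]
      intro a _ b _
      rw [hZ, Subgroup.mem_centralizer_singleton_iff]
      have ha : ∀ a, a * x * a⁻¹ = ⁅a, x⁆ * x := fun a => by rw [commutatorElement_def, inv_mul_cancel_right]
      obtain ⟨f, hf⟩ : ∃ f : _ → _, ∀ a, f a = ⁅a, x⁆ := ⟨fun a : ↥((Subgroup.centralizer ({d'} : Set X)).comap q) => ⁅a, x⁆, fun _ => rfl⟩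
      have hm : ∀ a b, f (a * b) = f a * f b := fun a b => by
        rw [hf, hf, hf, hzc a, commutatorElement_def, show a * b * x * (a * b)⁻¹ * x⁻¹ =
          a * (b * x * b⁻¹) * a⁻¹ * x⁻¹ by group, ha b, show a * (⁅b, x⁆ * x) * a⁻¹ * x⁻¹ =
          (a * ⁅b, x⁆) * x * a⁻¹ * x⁻¹ by group, ← hzc b a, commutatorElement_def]
        group
      have hfc : ∀ a b, f a * f b = f b * f a := fun a b => by rw [hf, hzc a]
      have h1 : f ⁅a, b⁆ = 1 := by
        have hinv : ∀ a, f a⁻¹ = (f a)⁻¹ := fun a => by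
          refine eq_inv_of_mul_eq_one_left ?_
          rw [← hm, inv_mul_cancel, hf, commutatorElement_one_left]
        rw [commutatorElement_def, hm, hm, hm, hinv, hinv, hfc a b]
        group
      rw [hf, commutatorElement_eq_one_iff_mul_comm] at h1
      exact h1
    intro y
    obtain ⟨k, hk, hke⟩ : qK q d' y ∈ (commutator ↥((Subgroup.centralizer ({d'} : Set X)).comap q)).map (qK q d') := by
      rw [commutator_def, Subgroup.map_commutator, Subgroup.map_top_of_surjective _ hqs, ← commutator_def, hperfH]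
      trivial
    have h2 : (k⁻¹ * y).1 = 1 ∨ (k⁻¹ * y).1 = δ := (hqk _).1 (by rw [map_mul, map_inv, hke, inv_mul_cancel])
    have hk' := hc hk
    rw [hZ, Subgroup.mem_centralizer_singleton_iff] at hk'
    have h3 : x * (k⁻¹ * y) = (k⁻¹ * y) * x := Subtype.ext (by
      show x.1 * (k⁻¹ * y).1 = (k⁻¹ * y).1 * x.1
      rcases h2 with r | r <;> rw [r]
      · rw [one_mul, mul_one]
      · exact (hcen _).symm)
    calc x * y = x * k * (k⁻¹ * y) := by group
      _ = k * (x * (k⁻¹ * y)) := by rw [← hk']; group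
      _ = y * x := by rw [h3]; group
  obtain ⟨E, hcov, hcomm⟩ := exists_cov e hF h (τ.comp (qK q d')) (hτ.comp hqs) hKc hp
  obtain ⟨k, hk, hke⟩ : dpt d' ∈ (commutator ↥((Subgroup.centralizer ({d'} : Set X)).comap q)).map (qK q d') := by
    rw [commutator_def, Subgroup.map_commutator, Subgroup.map_top_of_surjective _ hqs, ← commutator_def, hperfH]
    trivial
  obtain ⟨m, hm, hm0, hme⟩ := hcomm k hk (by rw [MonoidHom.comp_apply, hke, (hτk _).2 (Or.inr rfl)])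
  have hmd : qK q d' (E m) = dpt d' := by
    rw [← hme, map_pow, hke, pow_succ, pow_two, hd2, one_mul]
  have hd1 : dpt d' ≠ 1 := fun r => by
    have := congrArg Subtype.val r
    rw [show (dpt d').1 = d' from rfl, Subgroup.coe_one] at this
    rw [this, orderOf_one] at hd'
    omega
  have hval : ∀ k, inK0 k = true → k < 2048 → qK q d' (E k) = 1 ∨ qK q d' (E k) = dpt d' := fun k hk hk2 =>
    (hτk _).1 ((hcov.ker_plane hk2).2 hk)
  have hE0 : qK q d' (E 0) = 1 := by rw [hcov.zero, map_one]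
  have hx : qK q d' (E 876) * qK q d' (E 1310) = qK q d' (E 1650) := by
    rw [← map_mul, hcov.mul]; rfl
  suffices hc : ∃ c < 3, qK q d' (E (zOf c)) = 1 ∧ qK q d' (E (dOf c)) = dpt d' by
    obtain ⟨c, hc, hz, hd⟩ := hc
    refine ⟨c, E, hsurj, hker, hord, hcen, hperf, hperfH, ⟨⟨hτ, hτk, ?_, hdc, hc, fun a b => by
      rw [← map_mul, hcov.mul], fun w v hwv K hK m => ?_, hcov.map, hz, hd⟩, ⟨Subgroup.subtype_injective _,
      fun g => by rw [Subgroup.range_subtype, Subgroup.mem_centralizer_singleton_iff], rfl⟩, ?_⟩, hcov, hcomm⟩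
    · rw [← Subgroup.orderOf_coe]; exact hd'
    · obtain ⟨K', rfl⟩ := hqs K
      rw [← map_inv, ← map_mul, ← map_mul, hcov.conj w v hwv K' hK]
    · obtain ⟨g, hg1, hg2⟩ := hwc
      exact ⟨g, by rw [Subgroup.range_subtype]; exact hg1, hg2⟩
  simp only [inK0, Bool.or_eq_true, Nat.beq_eq] at hm0
  rcases hval 876 (by decide) (by norm_num) with a | a <;>
    rcases hval 1310 (by decide) (by norm_num) with b | b <;> rw [a, b] at hx
  · exfalso
    rw [one_mul] at hx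
    rcases hm0 with r | r | r | r <;> subst r
    exacts [hd1 (hmd.symm.trans hE0), hd1 (hmd.symm.trans a), hd1 (hmd.symm.trans b), hd1 (hmd.symm.trans hx.symm)]
  · exact ⟨0, by norm_num, a, b⟩
  · exact ⟨1, by norm_num, b, a⟩
  · rw [hd2] at hx
    exact ⟨2, by norm_num, hx.symm, a⟩

variable {τ : ↥(Subgroup.centralizer ({d'} : Set X)) →* Cfsg.PSU 6 F 2} {c : ℕ}
  {E : ℕ → ↥((Subgroup.centralizer ({d'} : Set X)).comap q)}

/-- the preimage of the plane subgroup -/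
def Dbl.Ah (D : Dbl e hF h q δ d' τ c E) : Subgroup Cg := D.ctx.A0.comap q

theorem Dbl.sq_δ (D : Dbl e hF h q δ d' τ c E) : δ * δ = 1 := by
  rw [← pow_two, ← D.ord]; exact pow_orderOf_eq_one δ

theorem Dbl.qE (D : Dbl e hF h q δ d' τ c E) (m : ℕ) :
    q (E m).1 = (Subgroup.centralizer ({d'} : Set X)).subtype (qK q d' (E m)) := rfl

theorem Dbl.E_mem (D : Dbl e hF h q δ d' τ c E) {m : ℕ} (hm : m < 2048) : (E m).1 ∈ D.Ah := D.ctx.E_mem hm

theorem Dbl.mem_Ah (D : Dbl e hF h q δ d' τ c E) {x : Cg} (hx : x ∈ D.Ah) :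
    ∃ m < 2048, x = (E m).1 ∨ x = (E m).1 * δ := by
  obtain ⟨m, hm, -, he⟩ := D.ctx.mem_A0.1 (show q x ∈ D.ctx.A0 from hx)
  refine ⟨m, hm, ?_⟩
  have h1 : q ((E m).1⁻¹ * x) = 1 := by rw [map_mul, map_inv, he, D.qE, inv_mul_cancel]
  rcases (D.ker _).1 h1 with r | r
  · exact Or.inl (inv_mul_eq_one.1 r).symm
  · exact Or.inr (by rw [← r, mul_inv_cancel_left])

theorem Dbl.sq_Ah (D : Dbl e hF h q δ d' τ c E) {x : Cg} (hx : x ∈ D.Ah) : x * x = 1 := by
  obtain ⟨m, -, hm⟩ := D.mem_Ah hx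
  have h1 : (E m).1 * (E m).1 = 1 := congrArg Subtype.val (D.cov.sq m)
  rcases hm with r | r <;> rw [r]
  · exact h1
  · rw [show (E m).1 * δ * ((E m).1 * δ) = (E m).1 * (δ * (E m).1) * δ by group, D.central,
      show (E m).1 * ((E m).1 * δ) * δ = (E m).1 * (E m).1 * (δ * δ) by group, h1, D.sq_δ, one_mul]

theorem Dbl.comm_Ah (D : Dbl e hF h q δ d' τ c E) {x y : Cg} (hx : x ∈ D.Ah) (hy : y ∈ D.Ah) :
    x * y = y * x := by
  have hi : ∀ {z}, z ∈ D.Ah → z⁻¹ = z := fun hz => inv_eq_of_mul_eq_one_right (D.sq_Ah hz)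
  calc x * y = (x * y)⁻¹ := (hi (mul_mem hx hy)).symm
    _ = y * x := by rw [_root_.mul_inv_rev, hi hx, hi hy]

/-- Involutions lift. -/
theorem Dbl.lift_sq [Finite Cg] [Finite X] (D : Dbl e hF h q δ d' τ c E) {y : Cg} (hy : q y * q y = 1) :
    y * y = 1 := by
  obtain ⟨g, hg⟩ := D.ctx.conj_into hy
  obtain ⟨a, ha⟩ := D.surj g
  have h1 : a * y * a⁻¹ ∈ D.Ah := by
    show q (a * y * a⁻¹) ∈ D.ctx.A0
    rw [map_mul, map_mul, map_inv, ha]; exact hg
  calc y * y = a⁻¹ * (a * y * a⁻¹ * (a * y * a⁻¹)) * a := by group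
    _ = 1 := by rw [D.sq_Ah h1]; group

/-- The involution is no square. -/
theorem Dbl.not_sq [Finite Cg] [Finite X] (D : Dbl e hF h q δ d' τ c E) (y : Cg) : y * y ≠ δ := fun hy => by
  have h1 := D.lift_sq (y := y) (by rw [← map_mul, hy, (D.ker δ).2 (Or.inr rfl)])
  have := D.ord
  rw [← hy, h1, orderOf_one] at this
  omega

set_option maxHeartbeats 1000000 in
/-- The kernel of the plane in the double cover is the involution. -/
theorem Dbl.z_eq [Finite Cg] [Finite X] (D : Dbl e hF h q δ d' τ c E) : (E (zOf c)).1 = δ := by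
  classical
  have h0 : q (E (zOf c)).1 = 1 := congrArg Subtype.val D.ctx.M.z_one
  rcases (D.ker _).1 h0 with hz | hz
  swap
  · exact hz
  exfalso
  obtain ⟨hzpos, hzlt, hdlt, -, -, -⟩ := zOf_pos D.ctx.M.lt
  obtain ⟨K, hK⟩ : ∃ K, K = (Subgroup.centralizer ({d'} : Set X)).comap q := ⟨_, rfl⟩
  have hδK : δ ∈ K := by
    rw [hK, Subgroup.mem_comap, (D.ker δ).2 (Or.inr rfl)]; exact one_mem _
  obtain ⟨K', hK'⟩ : ∃ K' : Subgroup Cg, K' = ⁅K, K⁆ := ⟨_, rfl⟩
  have hmapc : (commutator ↥K).map K.subtype = K' := by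
    rw [commutator_def, Subgroup.map_commutator, ← MonoidHom.range_eq_map, Subgroup.range_subtype, hK']
  have hsplit : δ ∉ K' := by
    subst hK
    rw [← hmapc]
    rintro ⟨k, hk, hkd⟩
    have hq1 : qK q d' k = 1 := Subtype.ext (show q k.1 = 1 by
      rw [show k.1 = δ from hkd, (D.ker δ).2 (Or.inr rfl)])
    obtain ⟨m, hm, hm0, hme⟩ := D.comm k hk (by rw [hq1, map_one])
    have hEm : (E m).1 = δ := by
      rw [← hme, Subgroup.coe_pow, show k.1 = δ from hkd, pow_succ, pow_two, D.sq_δ, one_mul]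
    have hcase : ∀ c < 3, ∀ x ∈ [0, 876, 1310, 1650], x = 0 ∨ x = zOf c ∨ x = dOf c ∨ x = zOf c ^^^ dOf c := by
      decide +kernel
    have hδ1 : δ ≠ 1 := fun r => by have := D.ord; rw [r, orderOf_one] at this; omega
    have hqd : ∀ m, (E m).1 = δ → qK q d' (E m) = 1 := fun m hm => Subtype.ext (show q (E m).1 = 1 by
      rw [hm, (D.ker δ).2 (Or.inr rfl)])
    have hd1 : qK q d' (E (dOf c)) ≠ 1 := fun r => by
      have h2 := D.ctx.M.ord
      rw [← D.ctx.M.d_eq, r, orderOf_one] at h2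
      omega
    rcases hcase c D.ctx.M.lt m (by
      simp only [inK0, Bool.or_eq_true, Nat.beq_eq] at hm0
      simp only [List.mem_cons, List.not_mem_nil, or_false]
      exact hm0) with r | r | r | r
    · rw [r, D.cov.zero] at hEm; exact hδ1 hEm.symm
    · rw [r, hz] at hEm; exact hδ1 hEm.symm
    · exact hd1 (hqd _ (r ▸ hEm))
    · refine hd1 (hqd _ ?_)
      rw [← hEm, r, ← D.cov.mul, Subgroup.coe_mul, hz, one_mul]
  have hK'le : K' ≤ K := hK' ▸ Subgroup.commutator_le.2 fun a ha b hb => by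
    rw [commutatorElement_def]; exact mul_mem (mul_mem (mul_mem ha hb) (inv_mem ha)) (inv_mem hb)
  have hKsplit : ∀ k ∈ K, k ∈ K' ∨ k * δ ∈ K' := by
    intro k hk
    have h1 : q k ∈ K'.map q := by
      rw [hK', Subgroup.map_commutator, hK, Subgroup.map_comap_eq_self_of_surjective D.surj]
      have h2 := congrArg (Subgroup.map (Subgroup.centralizer ({d'} : Set X)).subtype) D.perfH
      rw [commutator_def, Subgroup.map_commutator, ← MonoidHom.range_eq_map, Subgroup.range_subtype] at h2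
      rw [h2]
      rw [hK] at hk
      exact hk
    obtain ⟨k', hk', hke⟩ := h1
    have h2 : q (k'⁻¹ * k) = 1 := by rw [map_mul, map_inv, hke, inv_mul_cancel]
    rcases (D.ker _).1 h2 with r | r
    · exact Or.inl (inv_mul_eq_one.1 r ▸ hk')
    · refine Or.inr ?_
      rw [show k = k' * δ by rw [← r, mul_inv_cancel_left], mul_assoc, D.sq_δ, mul_one]
      exact hk'
  obtain ⟨χ, hχ⟩ : ∃ χ : Cg → ℤˣ, ∀ g, χ g = if g ∈ K' then 1 else -1 := ⟨_, fun _ => rfl⟩
  have hχ1 : ∀ {g}, g ∈ K' → χ g = 1 := fun hg => by rw [hχ, if_pos hg]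
  have hχn : ∀ {g}, g ∉ K' → χ g = -1 := fun hg => by rw [hχ, if_neg hg]
  have hχm : ∀ a ∈ K, ∀ b ∈ K, χ (a * b) = χ a * χ b := by
    intro a ha b hb
    by_cases h1 : a ∈ K' <;> by_cases h2 : b ∈ K'
    · rw [hχ1 h1, hχ1 h2, hχ1 (mul_mem h1 h2), one_mul]
    · rw [hχ1 h1, hχn h2, hχn fun hab => h2 (by simpa using mul_mem (inv_mem h1) hab), one_mul]
    · rw [hχn h1, hχ1 h2, hχn fun hab => h1 (by simpa using mul_mem hab (inv_mem h2)), mul_one]
    · have h3 := mul_mem ((hKsplit a ha).resolve_left h1) ((hKsplit b hb).resolve_left h2)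
      rw [show a * δ * (b * δ) = a * (δ * b) * δ by group, D.central, show a * (b * δ) * δ = a * b * (δ * δ) by group,
        D.sq_δ, mul_one] at h3
      rw [hχn h1, hχn h2, hχ1 h3, neg_mul_neg, one_mul]
  have hχδ : χ δ = -1 := hχn hsplit
  -- the swap
  obtain ⟨hy, -, ⟨p, hp, hpm⟩, -, -⟩ := yPt_spec D.ctx.M.lt
  have hylt := (pts_spec D.ctx.M.lt hy).1
  obtain ⟨U, hU⟩ := D.ctx.M.surj (cls (gW e hF h (gWd 0)))
  have hUU : U * U = 1 := by
    have hw0 : gWd 0 ∈ rootWords := by decide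
    rcases (D.ctx.M.ker _).1 (by rw [map_mul, hU, ← map_mul, root_sq e hF h hw0, map_one]) with r | r
    · exact r
    · exact absurd (IsConj.refl d') (no_square D.ctx.M D.ctx.as (v := U) (by rw [r]; rfl))
  have hUN := D.ctx.lift_N (g := [0]) (by simp) (k := U) (by rw [hU, chainW, chainW, List.append_nil])
  have hpP : D.ctx.IsPt (qK q d' (E p) : X) := D.ctx.pt_iff.2 (Or.inr ⟨p, hp, rfl⟩)
  have hpne : (U : X) * (qK q d' (E p) : X) * (U : X)⁻¹ ≠ qK q d' (E p) := by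
    intro he
    have h1 : qK q d' (E (selX (genVec.getD 0 []) p)) = qK q d' (E p) := by
      rw [← D.ctx.M.conj _ _ (actOK_gen (by norm_num)) U hU p]
      exact Subtype.ext he
    have hlt := (pts_spec D.ctx.M.lt hp).1
    have h2 := (D.ctx.M.inj (selX_lt _ _ (actOK_gen (g := 0) (by norm_num)).vec_lt) hlt).1 h1
    exact hpm (h2.trans (pts_spec D.ctx.M.lt hp).2.1)
  obtain ⟨n, hn, hnd, hny⟩ := D.ctx.to_pair hpP (D.ctx.pt_conj hUN hpP) (Ne.symm hpne) hy
  obtain ⟨v, hv⟩ : ∃ v : X, v = n⁻¹ * (U : X) * n := ⟨_, rfl⟩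
  have hUU' : (U : X) * (U : X) = 1 := congrArg Subtype.val hUU
  have hvv : v * v = 1 := by
    rw [hv, show n⁻¹ * (U : X) * n * (n⁻¹ * (U : X) * n) = n⁻¹ * ((U : X) * (U : X)) * n by group, hUU']
    group
  have hvN : v ∈ D.ctx.N := hv ▸ mul_mem (mul_mem (inv_mem hn) hUN) hn
  have hvd : v * d' * v⁻¹ = (qK q d' (E (yPt c)) : X) := by
    rw [hv, show n⁻¹ * (U : X) * n * d' * (n⁻¹ * (U : X) * n)⁻¹ = n⁻¹ * ((U : X) * (n * d' * n⁻¹) * (U : X)⁻¹) * n
      by group, hnd]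
    refine Eq.trans ?_ (show n⁻¹ * (n * (qK q d' (E (yPt c)) : X) * n⁻¹) * n = _ by group)
    rw [show n * (qK q d' (E (yPt c)) : X) * n⁻¹ = _ from hny]
    rfl
  have hvy : v * (qK q d' (E (yPt c)) : X) * v⁻¹ = d' := by
    rw [← hvd, show v * (v * d' * v⁻¹) * v⁻¹ = v * v * d' * (v * v)⁻¹ by group, hvv]; group
  obtain ⟨w, hw⟩ := D.surj v
  have hww : w * w = 1 := D.lift_sq (by rw [hw, hvv])
  have hwi : w⁻¹ = w := inv_eq_of_mul_eq_one_right hww
  -- the stabiliser of the pair and of its first member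
  obtain ⟨P2, hP2⟩ : ∃ P2 : Subgroup X, P2 = D.ctx.N ⊓ Subgroup.centralizer ({d'} : Set X) ⊓
      Subgroup.centralizer ({(qK q d' (E (yPt c)) : X)} : Set X) := ⟨_, rfl⟩
  have hP2m : ∀ x, x ∈ P2 ↔ x ∈ D.ctx.N ∧ x * d' * x⁻¹ = d' ∧
      x * (qK q d' (E (yPt c)) : X) * x⁻¹ = qK q d' (E (yPt c)) := fun x => by
    rw [hP2, Subgroup.mem_inf, Subgroup.mem_inf, Subgroup.mem_centralizer_singleton_iff,
      Subgroup.mem_centralizer_singleton_iff, mul_inv_eq_iff_eq_mul, mul_inv_eq_iff_eq_mul, and_assoc]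
  have hP2v : ∀ x ∈ P2, v * x * v⁻¹ ∈ P2 := fun x hx => by
    obtain ⟨a, b, b'⟩ := (hP2m x).1 hx
    have hi1 : v⁻¹ * d' * v = (qK q d' (E (yPt c)) : X) :=
      (congrArg (fun z => v⁻¹ * z * v) hvy).symm.trans (by group)
    have hi2 : v⁻¹ * (qK q d' (E (yPt c)) : X) * v = d' :=
      (congrArg (fun z => v⁻¹ * z * v) hvd).symm.trans (by group)
    refine (hP2m _).2 ⟨mul_mem (mul_mem hvN a) (inv_mem hvN), ?_, ?_⟩
    · rw [show v * x * v⁻¹ * d' * (v * x * v⁻¹)⁻¹ = v * (x * (v⁻¹ * d' * v) * x⁻¹) * v⁻¹ by group, hi1, b', hvy]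
    · rw [show v * x * v⁻¹ * (qK q d' (E (yPt c)) : X) * (v * x * v⁻¹)⁻¹ =
          v * (x * (v⁻¹ * (qK q d' (E (yPt c)) : X) * v) * x⁻¹) * v⁻¹ by group, hi2, b, hvd]
  obtain ⟨M2, hM2⟩ : ∃ M2, M2 = P2.comap q := ⟨_, rfl⟩
  have hM2K : M2 ≤ K := fun g hg => by
    rw [hK, Subgroup.mem_comap]
    rw [hM2, Subgroup.mem_comap, hP2, Subgroup.mem_inf, Subgroup.mem_inf] at hg
    exact hg.1.2
  have hM2w : ∀ g ∈ M2, w * g * w⁻¹ ∈ M2 := fun g hg => by
    rw [hM2, Subgroup.mem_comap] at hg ⊢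
    rw [map_mul, map_mul, map_inv, hw]; exact hP2v _ hg
  obtain ⟨φ, hφ⟩ : ∃ φ : ↥M2 →* ℤˣ, ∀ g : ↥M2, φ g = χ g.1 * χ (w * g.1 * w⁻¹) :=
    ⟨MonoidHom.mk' (fun g => χ g.1 * χ (w * g.1 * w⁻¹)) fun a b => by
      rw [Subgroup.coe_mul, hχm _ (hM2K a.2) _ (hM2K b.2),
        show w * (a.1 * b.1) * w⁻¹ = w * a.1 * w⁻¹ * (w * b.1 * w⁻¹) by group,
        hχm _ (hM2K (hM2w _ a.2)) _ (hM2K (hM2w _ b.2))]
      exact mul_mul_mul_comm _ _ _ _, fun _ => rfl⟩
  -- the two characters agree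
  have hagree : ∀ g : ↥M2, φ g = 1 := by
    subst hK
    obtain ⟨MK, hMK⟩ : ∃ MK, MK = M2.subgroupOf ((Subgroup.centralizer ({d'} : Set X)).comap q) := ⟨_, rfl⟩
    obtain ⟨R, hR⟩ : ∃ R, R = (φ.ker.map M2.subtype).subgroupOf ((Subgroup.centralizer ({d'} : Set X)).comap q) :=
      ⟨_, rfl⟩
    have hRm : ∀ k : ↥((Subgroup.centralizer ({d'} : Set X)).comap q), k ∈ R ↔ ∃ hk : k.1 ∈ M2, φ ⟨k.1, hk⟩ = 1 :=
      fun k => by
      rw [hR, Subgroup.mem_subgroupOf, Subgroup.mem_map]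
      exact ⟨fun ⟨g, hg, he⟩ => ⟨he ▸ g.2, by rw [show (⟨k.1, he ▸ g.2⟩ : ↥M2) = g from Subtype.ext he.symm]; exact hg⟩,
        fun ⟨hk, h1⟩ => ⟨⟨k.1, hk⟩, h1, rfl⟩⟩
    have hmemMK : ∀ k : ↥((Subgroup.centralizer ({d'} : Set X)).comap q), k ∈ MK ↔ qK q d' k ∈ D.ctx.M2 := fun k => by
      rw [hMK, Subgroup.mem_subgroupOf, hM2, Subgroup.mem_comap, hP2m, D.ctx.mem_M2]
      constructor
      · exact fun ⟨a, _, b⟩ => ⟨a, mul_inv_eq_iff_eq_mul.1 b⟩
      · exact fun ⟨a, b⟩ => ⟨a, D.ctx.fix_d (qK q d' k), mul_inv_eq_iff_eq_mul.2 b⟩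
    have hcomm : ∀ a ∈ MK, ∀ b ∈ MK, ⁅a, b⁆ ∈ R := fun a ha b hb => by
      rw [hMK, Subgroup.mem_subgroupOf] at ha hb
      refine (hRm _).2 ⟨by rw [commutatorElement_def]; exact mul_mem (mul_mem (mul_mem ha hb) (inv_mem ha)) (inv_mem hb), ?_⟩
      rw [show (⟨(⁅a, b⁆ : ↥((Subgroup.centralizer ({d'} : Set X)).comap q)).1, _⟩ : ↥M2) =
        ⁅(⟨a.1, ha⟩ : ↥M2), ⟨b.1, hb⟩⁆ from rfl, map_commutatorElement, commutatorElement_eq_one_iff_mul_comm, mul_comm]
    have hst : ∀ g ∈ stabChains, ∀ k, (τ.comp (qK q d')) k = cls (gW e hF h (chainW g)) → k ∈ MK :=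
      fun g hg k hk => (hmemMK k).2 (D.ctx.chain_M2 hg hk)
    have hEM : ∀ m < 2048, E m ∈ MK := fun m hm => (hmemMK _).2 (D.ctx.E_M2 hm)
    have hone : ∀ k : ↥((Subgroup.centralizer ({d'} : Set X)).comap q), qK q d' k = 1 → k ∈ R := fun k hk => by
      have hk' : k ∈ MK := (hmemMK k).2 (D.ctx.ker_M2 (by rw [hk, map_one]))
      rw [hMK, Subgroup.mem_subgroupOf] at hk'
      refine (hRm k).2 ⟨hk', ?_⟩
      rw [hφ]
      rcases (D.ker k.1).1 (congrArg Subtype.val hk) with r | r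
      · show χ k.1 * χ (w * k.1 * w⁻¹) = 1
        rw [r, mul_one, mul_inv_cancel, hχ1 (one_mem _), one_mul]
      · show χ k.1 * χ (w * k.1 * w⁻¹) = 1
        rw [r, ← D.central w, mul_inv_cancel_right, hχδ]
        rfl
    have hker' : ∀ k, (τ.comp (qK q d')) k = 1 → k ∈ R := fun k hk => by
      rcases (D.ctx.M.ker _).1 hk with r | r
      · exact hone k r
      · have h1 := D.cov.plane_mem hcomm hst hEM hdlt
        have h2 := hone ((E (dOf c))⁻¹ * k) (by rw [map_mul, map_inv, D.ctx.M.d_eq, r, inv_mul_cancel])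
        have h3 := mul_mem h1 h2
        rwa [mul_inv_cancel_left] at h3
    have hS : ∀ k ∈ ((sylGrp e hF h).map cls).comap (τ.comp (qK q d')), k ∈ R := fun k hk =>
      D.cov.syl_mem hcomm hst hEM hker' hk
    have hidx : ¬ 2 ∣ (((sylGrp e hF h).map cls).comap (τ.comp (qK q d'))).index := by
      intro hd
      rw [Subgroup.index_comap_of_surjective _ D.cov.surj] at hd
      exact sylGrp_index_odd e hF h
        (hd.trans (Subgroup.index_map_dvd _ (QuotientGroup.mk'_surjective _)))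
    intro g
    have hSle : ((sylGrp e hF h).map cls).comap (τ.comp (qK q d')) ≤ MK := fun k hk => by
      obtain ⟨hk', -⟩ := (hRm k).1 (hS k hk)
      rw [hMK]; exact hk'
    obtain ⟨ψ, hψ⟩ : ∃ ψ : ↥MK →* ℤˣ, ∀ k : ↥MK, ψ k = χ k.1.1 * χ (w * k.1.1 * w⁻¹) :=
      ⟨φ.comp ((((Subgroup.centralizer ({d'} : Set X)).comap q).subtype.comp MK.subtype).codRestrict M2
        fun k => (le_of_eq hMK) k.2), fun k => hφ _⟩
    have h1 := char_eq_one ψ (S := (((sylGrp e hF h).map cls).comap (τ.comp (qK q d'))).subgroupOf MK)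
      (fun k hk => by
        obtain ⟨hk', h1⟩ := (hRm _).1 (hS _ hk)
        exact (hψ k).trans ((hφ ⟨_, hk'⟩).symm.trans h1)) (fun hd => hidx (by
        rw [← Subgroup.relIndex_mul_index hSle]; exact hd.trans (Dvd.intro _ rfl)))
      ⟨⟨g.1, hM2K g.2⟩, by rw [hMK, Subgroup.mem_subgroupOf]; exact g.2⟩
    rw [hψ] at h1
    rw [hφ, h1]
  have hχw : ∀ g ∈ M2, χ (w * g * w⁻¹) = χ g := fun g hg => by
    have h1 := hagree ⟨g, hg⟩
    rw [hφ] at h1
    rcases Int.units_eq_one_or (χ g) with r | r <;> rcases Int.units_eq_one_or (χ (w * g * w⁻¹)) with r' | r'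
    · rw [r, r']
    · rw [r, r'] at h1; exact absurd h1 (by decide)
    · rw [r, r'] at h1; exact absurd h1 (by decide)
    · rw [r, r']
  have hwM2 : w ∉ M2 := fun hh => by
    rw [hM2, Subgroup.mem_comap, hw, hP2m] at hh
    exact D.ctx.pts_ne hy (hvd.symm.trans hh.2.1)
  -- the stabiliser of the pair
  letI : Fintype D.ctx.Pts := Fintype.ofFinite _
  letI : MulAction ↥D.ctx.N (Sym2 D.ctx.Pts) :=
    { smul := fun g s => Sym2.map (D.ctx.perm g) s
      one_smul := fun s => by show Sym2.map _ s = s; rw [map_one]; exact congrFun Sym2.map_id s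
      mul_smul := fun a b s => by
        show Sym2.map (D.ctx.perm (a * b)) s = Sym2.map _ (Sym2.map _ s)
        rw [map_mul, Sym2.map_map]; rfl }
  obtain ⟨yy, hyy⟩ : ∃ yy : D.ctx.Pts, yy.1 = (qK q d' (E (yPt c)) : X) :=
    ⟨⟨_, D.ctx.pt_iff.2 (Or.inr ⟨_, hy, rfl⟩)⟩, rfl⟩
  obtain ⟨dd, hdd⟩ : ∃ dd : D.ctx.Pts, dd.1 = d' := ⟨⟨_, D.ctx.d_pt⟩, rfl⟩
  have hdy : dd ≠ yy := fun r => D.ctx.pts_ne hy (hyy.symm.trans ((congrArg Subtype.val r).symm.trans hdd))
  have hsm : ∀ (g : ↥D.ctx.N) (a b : D.ctx.Pts), g • s(a, b) = s(D.ctx.perm g a, D.ctx.perm g b) := fun g a b => rfl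
  have horb : MulAction.orbit ↥D.ctx.N s(dd, yy) = {s | ¬ s.IsDiag} := by
    ext s
    constructor
    · rintro ⟨g, rfl⟩
      show ¬ (g • s(dd, yy)).IsDiag
      rw [hsm, Sym2.mk_isDiag_iff]
      exact fun r => hdy ((D.ctx.perm g).injective r)
    · induction s using Sym2.ind with
      | _ a b =>
        intro hab
        rw [Set.mem_setOf_eq, Sym2.mk_isDiag_iff] at hab
        obtain ⟨g, hg, hga, hgb⟩ := D.ctx.to_pair a.2 b.2 (fun r => hab (Subtype.ext r)) hy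
        refine ⟨⟨g, hg⟩, ?_⟩
        show (⟨g, hg⟩ : ↥D.ctx.N) • s(dd, yy) = _
        rw [hsm, show D.ctx.perm ⟨g, hg⟩ dd = a from Subtype.ext (by rw [D.ctx.perm_apply, hdd, ← hga]),
          show D.ctx.perm ⟨g, hg⟩ yy = b from Subtype.ext (by rw [D.ctx.perm_apply, hyy, ← hgb]; rfl)]
  obtain ⟨H2, hH2⟩ : ∃ H2, H2 = (MulAction.stabilizer ↥D.ctx.N s(dd, yy)).map D.ctx.N.subtype := ⟨_, rfl⟩
  have hH2i : ¬ 2 ∣ H2.index := by
    rw [hH2, Subgroup.index_map_subtype, MulAction.index_stabilizer, horb, ← Nat.card_coe_set_eq]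
    have h231 : Nat.card ↥{s : Sym2 D.ctx.Pts | ¬ s.IsDiag} = 231 := by
      rw [show Nat.card ↥{s : Sym2 D.ctx.Pts | ¬ s.IsDiag} = Fintype.card {s : Sym2 D.ctx.Pts // ¬ s.IsDiag} from
        Nat.card_eq_fintype_card, Sym2.card_subtype_not_diag, ← Nat.card_eq_fintype_card, D.ctx.card_pts]
      rfl
    haveI := Fact.mk Nat.prime_two
    obtain ⟨T, hT⟩ := (show IsPGroup 2 D.ctx.A0 from fun a => ⟨1, Subtype.ext (by
      rw [Subgroup.coe_pow, pow_one, pow_two]; exact D.ctx.sq_A0 a.2)⟩).exists_le_sylow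
    intro hd
    rw [h231] at hd
    rcases (Nat.Prime.dvd_mul Nat.prime_two).1 hd with r | r
    · omega
    · exact T.not_dvd_index (r.trans (Subgroup.index_dvd_of_le (D.ctx.sylow_le_N hT)))
  obtain ⟨L2, hL2⟩ : ∃ L2, L2 = H2.comap q := ⟨_, rfl⟩
  have hH2m : ∀ x, x ∈ H2 ↔ x ∈ P2 ∨ (x ∈ D.ctx.N ∧ x * d' * x⁻¹ = (qK q d' (E (yPt c)) : X) ∧
      x * (qK q d' (E (yPt c)) : X) * x⁻¹ = d') := fun x => by
    rw [hP2m, hH2, Subgroup.mem_map]
    constructor
    · rintro ⟨g, hg, rfl⟩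
      rw [MulAction.mem_stabilizer_iff, hsm, Sym2.eq_iff] at hg
      rcases hg with ⟨a, b⟩ | ⟨a, b⟩ <;> have a' := congrArg Subtype.val a <;> have b' := congrArg Subtype.val b <;>
        rw [D.ctx.perm_apply, hdd] at a' <;> rw [D.ctx.perm_apply, hyy] at b'
      · exact Or.inl ⟨g.2, a', b'⟩
      · exact Or.inr ⟨g.2, a'.trans hyy, b'.trans hdd⟩
    · intro hx
      have hxN : x ∈ D.ctx.N := hx.elim (fun r => r.1) (fun r => r.1)
      refine ⟨⟨x, hxN⟩, ?_, rfl⟩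
      rw [MulAction.mem_stabilizer_iff, hsm, Sym2.eq_iff]
      rcases hx with ⟨-, a, b⟩ | ⟨-, a, b⟩
      · exact Or.inl ⟨Subtype.ext (by rw [D.ctx.perm_apply, hdd]; exact a),
          Subtype.ext (by rw [D.ctx.perm_apply, hyy]; exact b)⟩
      · exact Or.inr ⟨Subtype.ext (by rw [D.ctx.perm_apply, hdd, hyy]; exact a),
          Subtype.ext (by rw [D.ctx.perm_apply, hyy, hdd]; exact b)⟩
  have hL2split : ∀ g ∈ L2, g ∈ M2 ∨ g * w ∈ M2 := fun g hg => by
    rw [hL2, Subgroup.mem_comap, hH2m] at hg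
    rw [hM2, Subgroup.mem_comap, Subgroup.mem_comap]
    rcases hg with r | ⟨a, b, b'⟩
    · exact Or.inl r
    · refine Or.inr ((hP2m _).2 ?_)
      rw [map_mul, hw]
      refine ⟨mul_mem a hvN, ?_, ?_⟩
      · rw [show q g * v * d' * (q g * v)⁻¹ = q g * (v * d' * v⁻¹) * (q g)⁻¹ by group, hvd, b']
      · rw [show q g * v * (qK q d' (E (yPt c)) : X) * (q g * v)⁻¹ =
          q g * (v * (qK q d' (E (yPt c)) : X) * v⁻¹) * (q g)⁻¹ by group, hvy, b]
  obtain ⟨θ, hθ⟩ : ∃ θ : ↥L2 → ℤˣ, ∀ g : ↥L2, θ g = if g.1 ∈ M2 then χ g.1 else χ (g.1 * w) := ⟨_, fun _ => rfl⟩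
  have hθm : ∀ a b : ↥L2, θ (a * b) = θ a * θ b := by
    have hout : ∀ {g}, g ∈ M2 → g * w ∉ M2 := fun hg hgw => hwM2 (by simpa using mul_mem (inv_mem hg) hgw)
    intro a b
    rw [hθ, hθ, hθ, Subgroup.coe_mul]
    by_cases ha : a.1 ∈ M2 <;> by_cases hb : b.1 ∈ M2
    · rw [if_pos ha, if_pos hb, if_pos (mul_mem ha hb), hχm _ (hM2K ha) _ (hM2K hb)]
    · have hb' := (hL2split _ b.2).resolve_left hb
      have hab : a.1 * b.1 ∉ M2 := fun r => hb (by simpa using mul_mem (inv_mem ha) r)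
      rw [if_pos ha, if_neg hb, if_neg hab, mul_assoc, hχm _ (hM2K ha) _ (hM2K hb')]
    · have ha' := (hL2split _ a.2).resolve_left ha
      have hab : a.1 * b.1 ∉ M2 := fun r => ha (by simpa using mul_mem r (inv_mem hb))
      rw [if_neg ha, if_pos hb, if_neg hab, show a.1 * b.1 * w = a.1 * w * (w⁻¹ * b.1 * w) by group, hwi]
      rw [show w * b.1 * w = w * b.1 * w⁻¹ by rw [hwi], hχm _ (hM2K ha') _ (hM2K (hM2w _ hb)), hχw _ hb]
    · have ha' := (hL2split _ a.2).resolve_left ha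
      have hb' := (hL2split _ b.2).resolve_left hb
      have hab : a.1 * b.1 = a.1 * w * (w * (b.1 * w) * w⁻¹) := by
        rw [show a.1 * w * (w * (b.1 * w) * w⁻¹) = a.1 * (w * w) * b.1 by group, hww, mul_one]
      rw [if_neg ha, if_neg hb, hab, if_pos (mul_mem ha' (hM2w _ hb')), hχm _ (hM2K ha') _ (hM2K (hM2w _ hb')),
        hχw _ hb']
  have h1 : MonoidHom.transfer (MonoidHom.mk' θ hθm) δ = 1 := by
    have hc : commutator Cg ≤ (MonoidHom.transfer (MonoidHom.mk' θ hθm)).ker :=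
      Abelianization.commutator_subset_ker _
    exact hc (D.perf ▸ Subgroup.mem_top δ)
  rw [MonoidHom.transfer_eq_pow _ δ (fun k g0 _ => by
    rw [mul_assoc, (Commute.pow_left (show Commute δ g0 from D.central g0) k).eq, inv_mul_cancel_left])] at h1
  have hodd : Odd L2.index := by
    rw [hL2, Subgroup.index_comap_of_surjective _ D.surj, ← Nat.not_even_iff_odd, even_iff_two_dvd]
    exact hH2i
  obtain ⟨k, hk⟩ := hodd
  have hpow : δ ^ L2.index = δ := by rw [hk, pow_succ, pow_mul, pow_two, D.sq_δ, one_pow, one_mul]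
  simp only [MonoidHom.mk'_apply, hθ, hpow] at h1
  have hδM : δ ∈ M2 := by
    rw [hM2, Subgroup.mem_comap, (D.ker δ).2 (Or.inr rfl)]; exact one_mem _
  rw [if_pos hδM, hχδ] at h1
  exact absurd h1 (by decide)

end CfsgLib.KnownB.Fi22Double
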