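import Cfsg.Agent.Lib.KnownB.Fi22Double.Count
import Cfsg.Prelude.Def_CaseTheorems

/-!
The data from the hypotheses on the centraliser of the involution.
-/

set_option autoImplicit false
set_option maxRecDepth 20000

noncomputable section

namespace CfsgLib.KnownB.Fi22Double

open Matrix CfsgLib.Classical CfsgLib.Classical.Unitary CfsgLib.Spor CfsgLib.MultSU CfsgLib.KnownB.U62Mult
  CfsgLib.KnownB.U62Thompson

universe u

theorem exists_data {G : Type u} [Group G] [Finite G] (d : G) (hd : orderOf d = 2)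
    (hq : Cfsg.IsQuasisimple ↥(Subgroup.centralizer ({d} : Set G)))
    [hzn : ((Subgroup.zpowers d).subgroupOf (Subgroup.centralizer ({d} : Set G))).Normal]
    (hinvol : ∃ d' : ↥(Subgroup.centralizer ({d} : Set G)) ⧸ (Subgroup.zpowers d).subgroupOf (Subgroup.centralizer ({d} : Set G)), orderOf d' = 2 ∧ Cfsg.IsQuasisimple ↥(Subgroup.centralizer ({d'} : Set _)) ∧ (∃ (K : Type) (_ : Field K) (_ : Fintype K), Fintype.card K = 4 ∧ ∃ _ : ((Subgroup.zpowers d').subgroupOf (Subgroup.centralizer ({d'} : Set _))).Normal, Nonempty (↥(Subgroup.centralizer ({d'} : Set _)) ⧸ (Subgroup.zpowers d').subgroupOf (Subgroup.centralizer ({d'} : Set _)) ≃* Cfsg.PSU 6 K 2)) ∧ ∃ g, g * d' * g⁻¹ ∈ Subgroup.centralizer ({d'} : Set _) ∧ g * d' * g⁻¹ ≠ d')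
    {P : Prop}
    (cont : ∀ (F : Type) (_ : Field F) (_ : Finite F) (e : QField →+* F) (σ : F →+* F) (hF : Nat.card F = 2 ^ 2)
      (h : UFrob σ 2)
      (δ : ↥(Subgroup.centralizer ({d} : Set G)))
      (d' : ↥(Subgroup.centralizer ({d} : Set G)) ⧸ (Subgroup.zpowers d).subgroupOf (Subgroup.centralizer ({d} : Set G)))
      (τ : ↥(Subgroup.centralizer ({d'} : Set _)) →* Cfsg.PSU 6 F 2) (c : ℕ)
      (E : ℕ → ↥((Subgroup.centralizer ({d'} : Set _)).comap (QuotientGroup.mk' ((Subgroup.zpowers d).subgroupOf (Subgroup.centralizer ({d} : Set G)))))),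
      AsCent (Subgroup.centralizer ({d} : Set G)).subtype δ d →
      Dbl e hF h (QuotientGroup.mk' ((Subgroup.zpowers d).subgroupOf (Subgroup.centralizer ({d} : Set G)))) δ d' τ c E → P) :
    P := by
  obtain ⟨d', hd', hqH, ⟨K, _, _, hK, hn, ⟨eP⟩⟩, hwc⟩ := hinvol
  have hF : Nat.card K = 2 ^ 2 := by rw [Nat.card_eq_fintype_card, hK]; norm_num
  obtain ⟨σ, hσ⟩ := exists_uFrob hF
  have eK : QField →+* K := (FiniteField.ringEquivOfCardEq (K := QField) (K' := K) (by rw [hK]; rfl)).toRingHom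
  obtain ⟨δ, hδ⟩ : ∃ δ : ↥(Subgroup.centralizer ({d} : Set G)), δ = ⟨d, Subgroup.mem_centralizer_singleton_iff.2 rfl⟩ :=
    ⟨_, rfl⟩
  have hord : orderOf δ = 2 := by rw [← Subgroup.orderOf_coe, hδ]; exact hd
  have hcen : ∀ x, δ * x = x * δ := fun x => Subtype.ext (by
    rw [hδ, Subgroup.coe_mul, Subgroup.coe_mul]
    exact (Subgroup.mem_centralizer_singleton_iff.1 x.2).symm)
  have hker : ∀ x, QuotientGroup.mk' ((Subgroup.zpowers d).subgroupOf (Subgroup.centralizer ({d} : Set G))) x = 1 ↔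
      x = 1 ∨ x = δ := fun x => by
    rw [QuotientGroup.mk'_apply, QuotientGroup.eq_one_iff, Subgroup.mem_subgroupOf, Subgroup.mem_zpowers_iff]
    constructor
    · rintro ⟨k, hk⟩
      rcases Int.emod_two_eq k with r | r
      · left
        refine Subtype.ext ?_
        rw [← hk, ← zpow_mod_orderOf, hd]
        simp [r]
      · right
        refine Subtype.ext ?_
        rw [← hk, ← zpow_mod_orderOf, hd, hδ]
        simp [r]
    · rintro (rfl | rfl)
      · exact ⟨0, by simp⟩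
      · exact ⟨1, by simp [hδ]⟩
  have hAs : AsCent (Subgroup.centralizer ({d} : Set G)).subtype δ d := ⟨Subgroup.subtype_injective _, fun g => by
    rw [Subgroup.range_subtype, Subgroup.mem_centralizer_singleton_iff], by rw [hδ]; rfl⟩
  obtain ⟨τ, hτd⟩ : ∃ τ : ↥(Subgroup.centralizer ({d'} : Set _)) →* Cfsg.PSU 6 K 2,
      τ = eP.toMonoidHom.comp (QuotientGroup.mk' _) := ⟨_, rfl⟩
  have hτs : Function.Surjective τ := by
    rw [hτd]; exact eP.surjective.comp (QuotientGroup.mk'_surjective _)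
  have hτk : ∀ x, τ x = 1 ↔ x = 1 ∨ x = dpt d' := fun x => by
    rw [hτd, MonoidHom.comp_apply, MulEquiv.coe_toMonoidHom, map_eq_one_iff eP eP.injective, QuotientGroup.mk'_apply,
      QuotientGroup.eq_one_iff, Subgroup.mem_subgroupOf, Subgroup.mem_zpowers_iff]
    constructor
    · rintro ⟨k, hk⟩
      rcases Int.emod_two_eq k with r | r
      · left
        refine Subtype.ext ?_
        rw [← hk, ← zpow_mod_orderOf, hd']
        simp [r]
      · right
        refine Subtype.ext ?_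
        rw [← hk, ← zpow_mod_orderOf, hd']
        simp [r, dpt]
    · rintro (rfl | rfl)
      · exact ⟨0, by simp⟩
      · exact ⟨1, by simp [dpt]⟩
  obtain ⟨c, E, D⟩ := exists_dbl eK hF hσ (QuotientGroup.mk'_surjective _) hker hord hcen
    (Group.isPerfect_def.1 hq.1 :) hd' (Group.isPerfect_def.1 hqH.1 :) τ hτs hτk hwc
  exact cont K inferInstance inferInstance eK σ hF hσ δ d' τ c E hAs D

/-- Every involution of the quotient lifts and the involution is no square. -/
theorem involutions_lift {G : Type u} [Group G] [Finite G] (d : G) (hd : orderOf d = 2)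
    (hq : Cfsg.IsQuasisimple ↥(Subgroup.centralizer ({d} : Set G)))
    [hzn : ((Subgroup.zpowers d).subgroupOf (Subgroup.centralizer ({d} : Set G))).Normal]
    (hinvol : ∃ d' : ↥(Subgroup.centralizer ({d} : Set G)) ⧸ (Subgroup.zpowers d).subgroupOf (Subgroup.centralizer ({d} : Set G)), orderOf d' = 2 ∧ Cfsg.IsQuasisimple ↥(Subgroup.centralizer ({d'} : Set _)) ∧ (∃ (K : Type) (_ : Field K) (_ : Fintype K), Fintype.card K = 4 ∧ ∃ _ : ((Subgroup.zpowers d').subgroupOf (Subgroup.centralizer ({d'} : Set _))).Normal, Nonempty (↥(Subgroup.centralizer ({d'} : Set _)) ⧸ (Subgroup.zpowers d').subgroupOf (Subgroup.centralizer ({d'} : Set _)) ≃* Cfsg.PSU 6 K 2)) ∧ ∃ g, g * d' * g⁻¹ ∈ Subgroup.centralizer ({d'} : Set _) ∧ g * d' * g⁻¹ ≠ d') :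
    (∀ x : ↥(Subgroup.centralizer ({d} : Set G)) ⧸ (Subgroup.zpowers d).subgroupOf (Subgroup.centralizer ({d} : Set G)), orderOf x = 2 → ∃ y : ↥(Subgroup.centralizer ({d} : Set G)), orderOf y = 2 ∧ (QuotientGroup.mk y : ↥(Subgroup.centralizer ({d} : Set G)) ⧸ (Subgroup.zpowers d).subgroupOf (Subgroup.centralizer ({d} : Set G))) = x) ∧ ¬ ∃ g : G, g ^ 2 = d :=
  exists_data d hd hq hinvol fun F _ _ e σ hF h δ d' τ c E hA D => by
    refine ⟨fun x hx => ?_, fun ⟨g, hg⟩ => ?_⟩
    · obtain ⟨y, rfl⟩ := QuotientGroup.mk_surjective x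
      haveI := Fact.mk Nat.prime_two
      refine ⟨y, orderOf_eq_prime_iff.2 ⟨?_, fun r => ?_⟩, rfl⟩
      · rw [pow_two]
        refine D.lift_sq (y := y) ?_
        rw [QuotientGroup.mk'_apply, ← pow_two, ← hx]
        exact pow_orderOf_eq_one _
      · rw [r, QuotientGroup.mk_one, orderOf_one] at hx
        omega
    · refine D.no_square_G hA (v := ⟨g, Subgroup.mem_centralizer_singleton_iff.2 ?_⟩) ?_
      · rw [← hg]; group
      · rw [map_mul]
        show IsConj d (g * g)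
        rw [← pow_two, hg]

/-- The Thompson subgroup, its conjugates of the involution and their transitivity. -/
theorem thompson_main {G : Type u} [Group G] [Finite G] (d : G) (hd : orderOf d = 2)
    (hq : Cfsg.IsQuasisimple ↥(Subgroup.centralizer ({d} : Set G)))
    [hzn : ((Subgroup.zpowers d).subgroupOf (Subgroup.centralizer ({d} : Set G))).Normal]
    (hinvol : ∃ d' : ↥(Subgroup.centralizer ({d} : Set G)) ⧸ (Subgroup.zpowers d).subgroupOf (Subgroup.centralizer ({d} : Set G)), orderOf d' = 2 ∧ Cfsg.IsQuasisimple ↥(Subgroup.centralizer ({d'} : Set _)) ∧ (∃ (K : Type) (_ : Field K) (_ : Fintype K), Fintype.card K = 4 ∧ ∃ _ : ((Subgroup.zpowers d').subgroupOf (Subgroup.centralizer ({d'} : Set _))).Normal, Nonempty (↥(Subgroup.centralizer ({d'} : Set _)) ⧸ (Subgroup.zpowers d').subgroupOf (Subgroup.centralizer ({d'} : Set _)) ≃* Cfsg.PSU 6 K 2)) ∧ ∃ g, g * d' * g⁻¹ ∈ Subgroup.centralizer ({d'} : Set _) ∧ g * d' * g⁻¹ ≠ d')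
    (hnwc : ∃ g : G, g * d * g⁻¹ ∈ Subgroup.centralizer ({d} : Set G) ∧ g * d * g⁻¹ ≠ d)
    (S : Sylow 2 ↥(Subgroup.centralizer ({d} : Set G))) (A : Subgroup G)
    (hA : A = (Cfsg.thompsonSubgroupOf 2 (S : Subgroup ↥(Subgroup.centralizer ({d} : Set G)))).map
      (Subgroup.centralizer ({d} : Set G)).subtype) :
    Cfsg.IsElementaryAbelian 2 A ∧ Nat.card A = 2 ^ 11 ∧ Set.ncard {x : G | x ∈ A ∧ IsConj d x} = 23 ∧
      ∀ x ∈ A, ∀ y ∈ A, IsConj d x → IsConj d y → ∃ n ∈ Subgroup.normalizer (A : Set G), n * x * n⁻¹ = y :=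
  exists_data d hd hq hinvol fun F _ _ e σ hF h δ d' τ c E hAs D => by
    obtain ⟨a, ha⟩ := D.thompson S
    obtain ⟨ι, hι⟩ : ∃ ι, ι = (Subgroup.centralizer ({d} : Set G)).subtype := ⟨_, rfl⟩
    rw [← hι, ha, Subgroup.map_map] at hA
    rw [← hι] at hAs
    obtain ⟨γ, hγ⟩ : ∃ γ : G →* G, γ = (MulAut.conj (ι a)).toMonoidHom := ⟨_, rfl⟩
    have hγi : Function.Injective γ := by rw [hγ]; exact (MulAut.conj (ι a)).injective
    have hA' : A = (D.Ah.map ι).map γ := by
      rw [hA, Subgroup.map_map]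
      congr 1
      ext x
      rw [hγ]
      simp
    have hγd : ∀ x : G, IsConj x (γ x) := fun x => isConj_iff.2 ⟨ι a, by rw [hγ]; simp⟩
    refine ⟨?_, ?_, ?_, ?_⟩
    · rw [hA', hγ]
      refine elem_conj ?_ _
      obtain ⟨hc, hs⟩ := elem_iff.1 D.elem_Ah
      refine elem_iff.2 ⟨?_, ?_⟩
      · rintro _ ⟨x, hx, rfl⟩ _ ⟨y, hy, rfl⟩
        rw [← map_mul, ← map_mul, hc x hx y hy]
      · rintro _ ⟨x, hx, rfl⟩
        rw [← map_pow, hs x hx, map_one]
    · rw [hA', Subgroup.card_map_of_injective hγi, Subgroup.card_map_of_injective hAs.inj, D.card_Ah]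
      norm_num
    · have hset : {x : G | x ∈ A ∧ IsConj d x} = γ '' {x : G | x ∈ D.Ah.map ι ∧ IsConj d x} := by
        rw [hA']
        ext y
        constructor
        · rintro ⟨⟨x, hx, rfl⟩, hy⟩
          exact ⟨x, ⟨hx, hy.trans (hγd x).symm⟩, rfl⟩
        · rintro ⟨x, ⟨hx, hxd⟩, rfl⟩
          exact ⟨Subgroup.mem_map_of_mem γ hx, hxd.trans (hγd x)⟩
      rw [hset, Set.ncard_image_of_injective _ hγi]
      refine D.count hAs ?_
      obtain ⟨g, hg1, hg2⟩ := hnwc
      exact ⟨g, by rw [hι, Subgroup.range_subtype]; exact hg1, hg2⟩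
    · rw [hA']
      rintro _ ⟨x, hx, rfl⟩ _ ⟨y, hy, rfl⟩ hdx hdy
      obtain ⟨n1, hn1, hn1x⟩ := D.exists_norm hAs hx (hdx.trans (hγd x).symm)
      obtain ⟨n2, hn2, hn2y⟩ := D.exists_norm hAs hy (hdy.trans (hγd y).symm)
      refine ⟨γ (n2 * n1⁻¹), ?_, ?_⟩
      · have h1 : γ (n2 * n1⁻¹) ∈ (Subgroup.normalizer ((D.Ah.map ι : Subgroup G) : Set G)).map γ :=
          Subgroup.mem_map_of_mem γ (mul_mem hn2 (inv_mem hn1))
        have heq : (Subgroup.normalizer ((D.Ah.map ι : Subgroup G) : Set G)).map γ =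
            Subgroup.normalizer (((D.Ah.map ι).map γ : Subgroup G) : Set G) := by
          rw [hγ]
          exact Subgroup.map_equiv_normalizer_eq _ _
        exact heq ▸ h1
      · rw [← map_inv, ← map_mul, ← map_mul, ← hn1x, ← hn2y]
        congr 1
        group

end CfsgLib.KnownB.Fi22Double
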