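import Cfsg.Agent.Lib.KnownB.Fi22Double.Stab

/-!
The plane subgroup in a group with an involution whose centraliser is a double cover of `PSU₆(2)`:
its twenty-two points, the sign of the permutations of the points, uniqueness.
-/

set_option autoImplicit false
set_option maxRecDepth 20000

noncomputable section

namespace CfsgLib.KnownB.Fi22Double

open Matrix CfsgLib.Classical CfsgLib.Classical.Unitary CfsgLib.Spor CfsgLib.MultSU CfsgLib.KnownB.U62Mult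
  CfsgLib.KnownB.U62Thompson
open scoped commutatorElement

universe w z

variable {F : Type} [Field F] {e : QField →+* F} {σ : F →+* F} [Finite F] {hF : Nat.card F = 2 ^ 2}
  {h : UFrob σ 2} {H : Type w} [Group H] {τ : H →* Cfsg.PSU 6 F 2} {δ : H} {c : ℕ} {E : ℕ → H}
  {X : Type z} [Group X]

theorem _root_.CfsgLib.KnownB.U62Thompson.Mdl.cov (M : Mdl e hF h τ δ c E) : Cov e hF h τ E where
  surj := M.surj
  mul := M.mul
  conj := M.conj
  map := M.map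
  cen x hx y := by
    rcases (M.ker x).1 hx with r | r <;> rw [r]
    · rw [one_mul, mul_one]
    · exact M.central y

/-- the data -/
structure Ctx (e : QField →+* F) (hF : Nat.card F = 2 ^ 2) (h : UFrob σ 2) (τ : H →* Cfsg.PSU 6 F 2) (δ : H)
    (c : ℕ) (E : ℕ → H) (ι : H →* X) (d : X) : Prop where
  M : Mdl e hF h τ δ c E
  as : AsCent ι δ d
  wc : ∃ g : X, g * d * g⁻¹ ∈ ι.range ∧ g * d * g⁻¹ ≠ d

variable {ι : H →* X} {d : X}

/-- the plane subgroup -/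
def Ctx.A0 (C : Ctx e hF h τ δ c E ι d) : Subgroup X := C.M.A.map ι

/-- its normaliser -/
def Ctx.N (C : Ctx e hF h τ δ c E ι d) : Subgroup X := Subgroup.normalizer ((C.A0 : Subgroup X) : Set X)

/-- its points -/
def Ctx.IsPt (C : Ctx e hF h τ δ c E ι d) (x : X) : Prop := x ∈ C.A0 ∧ IsConj d x

theorem Ctx.mem_A0 (C : Ctx e hF h τ δ c E ι d) {x : X} :
    x ∈ C.A0 ↔ ∃ m < 2048, canZ (zOf c) m = m ∧ x = ι (E m) := by
  constructor
  · rintro ⟨a, ha, rfl⟩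
    obtain ⟨m, hm, hmc, rfl⟩ := C.M.mem_A_can.1 ha
    exact ⟨m, hm, hmc, rfl⟩
  · rintro ⟨m, hm, -, rfl⟩
    exact Subgroup.mem_map_of_mem ι ⟨m, hm, rfl⟩

theorem Ctx.E_mem (C : Ctx e hF h τ δ c E ι d) {m : ℕ} (hm : m < 2048) : ι (E m) ∈ C.A0 :=
  Subgroup.mem_map_of_mem ι ⟨m, hm, rfl⟩

theorem Ctx.card_A0 (C : Ctx e hF h τ δ c E ι d) : Nat.card C.A0 = 1024 := by
  rw [Ctx.A0, Subgroup.card_map_of_injective C.as.inj, C.M.card_A]

theorem Ctx.comm_A0 (C : Ctx e hF h τ δ c E ι d) {x y : X} (hx : x ∈ C.A0) (hy : y ∈ C.A0) : x * y = y * x := by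
  obtain ⟨a, ha, rfl⟩ := hx
  obtain ⟨b, hb, rfl⟩ := hy
  rw [← map_mul, ← map_mul, C.M.comm_A ha hb]

theorem Ctx.sq_A0 (C : Ctx e hF h τ δ c E ι d) {x : X} (hx : x ∈ C.A0) : x * x = 1 := by
  obtain ⟨a, ha, rfl⟩ := hx
  rw [← map_mul, ← pow_two, C.M.elem_A.2 a ha, map_one]

theorem Ctx.A0_le_N (C : Ctx e hF h τ δ c E ι d) : C.A0 ≤ C.N := Subgroup.le_normalizer

theorem Ctx.d_eq (C : Ctx e hF h τ δ c E ι d) : ι (E (dOf c)) = d := by rw [C.M.d_eq, C.as.image]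

theorem Ctx.d_mem (C : Ctx e hF h τ δ c E ι d) : d ∈ C.A0 :=
  C.d_eq ▸ C.E_mem (zOf_pos C.M.lt).2.2.1

theorem Ctx.d_pt (C : Ctx e hF h τ δ c E ι d) : C.IsPt d := ⟨C.d_mem, IsConj.refl d⟩

theorem Ctx.mem_range (C : Ctx e hF h τ δ c E ι d) {x : X} (hx : x * d * x⁻¹ = d) : ∃ k, ι k = x :=
  (C.as.range x).2 (mul_inv_eq_iff_eq_mul.1 hx)

theorem Ctx.fix_d (C : Ctx e hF h τ δ c E ι d) (k : H) : ι k * d * (ι k)⁻¹ = d :=
  mul_inv_eq_iff_eq_mul.2 ((C.as.range _).1 ⟨k, rfl⟩)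

theorem pts_facts {c : ℕ} (hc : c < 3) : ptsCheck c = true ∧ triCheck c = true ∧ bothOK c 1 = true ∧
    bothOK c 3 = true := by
  have h1 := List.all_eq_true.1 pts_ok c (List.mem_range.2 hc)
  have h2 := List.all_eq_true.1 both_ok c (List.mem_range.2 hc)
  simp only [Bool.and_eq_true] at h1 h2
  exact ⟨h1.1, h1.2, h2.1, h2.2⟩

theorem pts_spec {c p : ℕ} (hc : c < 3) (hp : p ∈ pts c) : p < 2048 ∧ canZ (zOf c) p = p ∧ p ≠ dOf c ∧
    (orbBits c 0).testBit (canZ (zOf c) (p ^^^ dOf c)) = true ∧ ∀ q ∈ pts c, p ≠ q →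
      (orbBits c 1).testBit (canZ (zOf c) (p ^^^ q)) = true ∧
      (orbBits c 3).testBit (canZ (zOf c) (dOf c ^^^ p ^^^ q)) = true := by
  have h1 := (pts_facts hc).1
  simp only [ptsCheck, Bool.and_eq_true, List.all_eq_true, Bool.or_eq_true, Nat.beq_eq, Bool.not_eq_true',
    ← Bool.not_eq_true] at h1
  obtain ⟨⟨⟨a, b⟩, r0⟩, r⟩ := h1.1.1.1.1.1 p hp
  exact ⟨(mem_elemsOf.1 hp).1, a, b, r0, fun q hq hne => (r q hq).resolve_left hne⟩

theorem yPt_spec {c : ℕ} (hc : c < 3) : yPt c ∈ pts c ∧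
    (∀ g ∈ stabChains, canZ (zOf c) (chainV g (yPt c)) = yPt c) ∧
    (∃ p ∈ pts c, canZ (zOf c) (selX (genVec.getD 0 []) p) ≠ p) ∧ (pts c).length = 21 ∧
    ∀ m, (orbBits c 0).testBit m = true → m < 2048 → (orbBits c 1).testBit m = false := by
  have h1 := (pts_facts hc).1
  simp only [ptsCheck, Bool.and_eq_true, List.all_eq_true, Bool.or_eq_true, Nat.beq_eq, List.any_eq_true,
    Bool.not_eq_true', ← Bool.not_eq_true] at h1
  obtain ⟨⟨⟨⟨⟨-, hdis⟩, q, hq, e1⟩, hst⟩, hmv⟩, hlen⟩ := h1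
  exact ⟨e1 ▸ hq, hst, hmv, hlen, fun m hm hlt => Bool.eq_false_iff.2 (hdis m (mem_elemsOf.2 ⟨hlt, hm⟩))⟩

theorem Ctx.pt_iff [Finite H] (C : Ctx e hF h τ δ c E ι d) {x : X} :
    C.IsPt x ↔ x = d ∨ ∃ p ∈ pts c, x = ι (E p) := by
  constructor
  · rintro ⟨hx, hxd⟩
    obtain ⟨m, hm, hmc, rfl⟩ := C.mem_A0.1 hx
    have h1 := mem_elemsOf.1 ((conj_iff C.M C.as C.wc hm hmc).1 hxd)
    rw [Nat.testBit_or, Nat.one_shiftLeft, Nat.testBit_two_pow, Bool.or_eq_true, decide_eq_true_eq] at h1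
    rcases h1.2 with r | r
    · exact Or.inl (r ▸ C.d_eq)
    · exact Or.inr ⟨m, mem_elemsOf.2 ⟨hm, r⟩, rfl⟩
  · rintro (rfl | ⟨p, hp, rfl⟩)
    · exact C.d_pt
    · obtain ⟨hlt, hc, -⟩ := pts_spec C.M.lt hp
      refine ⟨C.E_mem hlt, (conj_iff C.M C.as C.wc hlt hc).2 (mem_elemsOf.2 ⟨hlt, ?_⟩)⟩
      rw [Nat.testBit_or, (mem_elemsOf.1 hp).2, Bool.or_true]

theorem Ctx.E_eq (C : Ctx e hF h τ δ c E ι d) {a b : ℕ} (ha : a < 2048) (hb : b < 2048) :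
    ι (E a) = ι (E b) ↔ canZ (zOf c) a = canZ (zOf c) b := by
  rw [← C.M.inj ha hb]
  exact ⟨fun he => C.as.inj he, fun he => congrArg ι he⟩

theorem Ctx.pts_ne (C : Ctx e hF h τ δ c E ι d) {p : ℕ} (hp : p ∈ pts c) : ι (E p) ≠ d := by
  obtain ⟨hlt, hc, hne, -⟩ := pts_spec C.M.lt hp
  rw [← C.d_eq]
  intro he
  have h1 := (C.E_eq hlt (zOf_pos C.M.lt).2.2.1).1 he
  rw [hc, (zOf_pos C.M.lt).2.2.2.2.2] at h1
  exact hne h1

theorem Ctx.pts_inj (C : Ctx e hF h τ δ c E ι d) {p q : ℕ} (hp : p ∈ pts c) (hq : q ∈ pts c)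
    (he : ι (E p) = ι (E q)) : p = q := by
  obtain ⟨hlt, hc, -⟩ := pts_spec C.M.lt hp
  obtain ⟨hlt', hc', -⟩ := pts_spec C.M.lt hq
  have h1 := (C.E_eq hlt hlt').1 he
  rwa [hc, hc'] at h1

theorem Ctx.conj_mem (C : Ctx e hF h τ δ c E ι d) {n x : X} (hn : n ∈ C.N) (hx : x ∈ C.A0) :
    n * x * n⁻¹ ∈ C.A0 := (Subgroup.mem_normalizer_iff.1 hn x).1 hx

theorem Ctx.pt_conj (C : Ctx e hF h τ δ c E ι d) {n x : X} (hn : n ∈ C.N) (hx : C.IsPt x) :
    C.IsPt (n * x * n⁻¹) :=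
  ⟨C.conj_mem hn hx.1, hx.2.trans (isConj_iff.2 ⟨n, rfl⟩)⟩

theorem Ctx.mem_N [Finite H] (C : Ctx e hF h τ δ c E ι d) {n : X}
    (hn : ∀ m < 2048, n * ι (E m) * n⁻¹ ∈ C.A0) : n ∈ C.N := by
  haveI : Finite C.A0 := Nat.finite_of_card_ne_zero (by rw [C.card_A0]; norm_num)
  have h1 : C.A0.map (MulAut.conj n).toMonoidHom = C.A0 := by
    refine Subgroup.eq_of_le_of_card_ge ?_
      (Subgroup.card_map_of_injective (MulAut.conj n).injective).ge
    rintro _ ⟨x, hx, rfl⟩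
    obtain ⟨m, hm, -, rfl⟩ := C.mem_A0.1 hx
    exact hn m hm
  rw [Ctx.N, Subgroup.mem_normalizer_iff]
  intro x
  constructor
  · intro hx
    rw [← h1]
    exact ⟨x, hx, rfl⟩
  · intro hx
    rw [← h1] at hx
    obtain ⟨y, hy, hye⟩ := hx
    have : y = x := (MulAut.conj n).injective hye
    exact this ▸ hy

theorem Ctx.lift_N [Finite H] (C : Ctx e hF h τ δ c E ι d) {g : List ℕ} (hg : ∀ i ∈ g, i < 7) {k : H}
    (hk : τ k = cls (gW e hF h (chainW g))) : ι k ∈ C.N := by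
  refine C.mem_N fun m hm => ?_
  rw [← map_inv, ← map_mul, ← map_mul, C.M.cov.chain hg hk]
  refine C.E_mem ?_
  clear hk
  induction g with
  | nil => exact hm
  | cons a r ih =>
    exact selX_lt _ _ (actOK_gen (hg a List.mem_cons_self)).vec_lt

/-- The centraliser of the involution moves the other points transitively. -/
theorem Ctx.trans21 [Finite H] (C : Ctx e hF h τ δ c E ι d) {p q : ℕ} (hp : p ∈ pts c) (hq : q ∈ pts c) :
    ∃ k : H, ι k ∈ C.N ∧ k * E p * k⁻¹ = E q := by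
  obtain ⟨r, hr⟩ : ∃ r, r = orbRoot c 4 := ⟨_, rfl⟩
  have key : ∀ m ∈ pts c, ∃ k : H, ι k ∈ C.N ∧ k * E r * k⁻¹ = E m := by
    intro m hm
    have h1 := List.all_eq_true.1 (orbit_facts C.M.lt).1 4 (List.mem_range.2 (by norm_num))
    simp only [Bool.and_eq_true] at h1
    refine (growOK_spec (P := fun m => ∃ k : H, ι k ∈ C.N ∧ k * E r * k⁻¹ = E m) (Q := True)
      (fun m => by simp only [C.M.can]) ?_ _ _ _ h1.1 ?_ m (mem_elemsOf.1 hm).2).2 trivial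
    · intro g hg m
      obtain ⟨U, hU⟩ := C.M.surj (cls (gW e hF h (gWd g)))
      have hUN : ι U ∈ C.N := C.lift_N (g := [g]) (by simpa using hg) (by rw [hU, chainW, chainW, List.append_nil])
      have h2 := C.M.conj _ _ (actOK_gen hg) U hU m
      constructor
      · rintro ⟨k, hk, he⟩
        refine ⟨U⁻¹ * k, by rw [map_mul, map_inv]; exact mul_mem (inv_mem hUN) hk, ?_⟩
        rw [show U⁻¹ * k * E r * (U⁻¹ * k)⁻¹ = U⁻¹ * (k * E r * k⁻¹) * U by group, he, ← h2]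
        group
      · rintro ⟨k, hk, he⟩
        refine ⟨U * k, by rw [map_mul]; exact mul_mem hUN hk, ?_⟩
        rw [show U * k * E r * (U * k)⁻¹ = U * (k * E r * k⁻¹) * U⁻¹ by group, he, h2]
    · intro k hk
      rw [Nat.one_shiftLeft, Nat.testBit_two_pow, decide_eq_true_eq] at hk
      refine iff_of_true ⟨1, by rw [map_one]; exact one_mem _, ?_⟩ trivial
      rw [one_mul, inv_one, mul_one, hr, ← hk]
      rfl
  obtain ⟨a, ha, hae⟩ := key p hp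
  obtain ⟨b, hb, hbe⟩ := key q hq
  refine ⟨b * a⁻¹, by rw [map_mul, map_inv]; exact mul_mem hb (inv_mem ha), ?_⟩
  rw [← hae, ← hbe]
  group

theorem Ctx.to_pt [Finite H] (C : Ctx e hF h τ δ c E ι d) {x : X} (hx : C.IsPt x) :
    ∃ n ∈ C.N, n * d * n⁻¹ = x :=
  exists_normalizing C.M C.as hx.1 hx.2

/-- Two distinct points are the image of the base pair. -/
theorem Ctx.to_pair [Finite H] (C : Ctx e hF h τ δ c E ι d) {x y : X} (hx : C.IsPt x) (hy : C.IsPt y)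
    (hxy : x ≠ y) {p : ℕ} (hp : p ∈ pts c) :
    ∃ n ∈ C.N, n * d * n⁻¹ = x ∧ n * ι (E p) * n⁻¹ = y := by
  obtain ⟨n, hn, hnx⟩ := C.to_pt hx
  have hz : C.IsPt (n⁻¹ * y * n) := by simpa using C.pt_conj (inv_mem hn) hy
  rcases C.pt_iff.1 hz with r | ⟨q, hq, hqe⟩
  · exact absurd (by rw [← hnx, ← r]; group) hxy
  obtain ⟨k, hk, hke⟩ := C.trans21 hp hq
  refine ⟨n * ι k, mul_mem hn hk, ?_, ?_⟩
  · rw [show n * ι k * d * (n * ι k)⁻¹ = n * (ι k * d * (ι k)⁻¹) * n⁻¹ by group, C.fix_d, hnx]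
  · rw [show n * ι k * ι (E p) * (n * ι k)⁻¹ = n * (ι k * ι (E p) * (ι k)⁻¹) * n⁻¹ by group, ← map_inv,
      ← map_mul, ← map_mul, hke, ← hqe]
    group

/-- A product of two points determines them. -/
theorem Ctx.pair_unique [Finite H] (C : Ctx e hF h τ δ c E ι d) {x y u v : X} (hx : C.IsPt x) (hy : C.IsPt y)
    (hu : C.IsPt u) (hv : C.IsPt v) (hxy : x ≠ y) (he : x * y = u * v) : u = x ∨ u = y := by
  obtain ⟨n, hn, hnx⟩ := C.to_pt hx
  obtain ⟨f, hf⟩ : ∃ f : X → X, ∀ a, f a = n⁻¹ * a * n := ⟨_, fun _ => rfl⟩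
  have hpt : ∀ {a}, C.IsPt a → C.IsPt (f a) := fun ha => by
    rw [hf]; simpa using C.pt_conj (inv_mem hn) ha
  have hfi : ∀ {a b}, f a = f b → a = b := fun hab => by
    rw [hf, hf] at hab; exact mul_left_cancel (mul_right_cancel hab)
  have hfd : f x = d := by rw [hf, ← hnx]; group
  have hfe : f x * f y = f u * f v := by
    simp only [hf]
    rw [show n⁻¹ * x * n * (n⁻¹ * y * n) = n⁻¹ * (x * y) * n by group, he]
    group
  rw [hfd] at hfe
  rcases C.pt_iff.1 (hpt hu) with r | ⟨q, hq, hqe⟩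
  · exact Or.inl (hfi (r.trans hfd.symm))
  rcases C.pt_iff.1 (hpt hy) with r | ⟨p, hp, hpe⟩
  · exact absurd (hfi (hfd.trans r.symm)) hxy
  rcases C.pt_iff.1 (hpt hv) with r | ⟨s, hs, hse⟩
  · right
    rw [r, C.comm_A0 (hpt hu).1 C.d_mem] at hfe
    exact hfi (mul_left_cancel hfe).symm
  exfalso
  rw [hpe, hqe, hse, ← C.d_eq, ← map_mul, ← map_mul, C.M.mul, C.M.mul] at hfe
  obtain ⟨hplt, -, -, hp0, -⟩ := pts_spec C.M.lt hp
  obtain ⟨hqlt, -, -, -, hqs⟩ := pts_spec C.M.lt hq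
  have hslt := (pts_spec C.M.lt hs).1
  have hd := (zOf_pos C.M.lt).2.2.1
  have h1 := (C.E_eq (xor_lt hd hplt) (xor_lt hqlt hslt)).1 hfe
  rw [Nat.xor_comm (dOf c) p] at h1
  rcases eq_or_ne q s with rfl | hne
  · rw [Nat.xor_self] at h1
    refine C.pts_ne hp ?_
    have h2 := (C.E_eq (xor_lt hplt hd) (by norm_num : (0 : ℕ) < 2048)).2 h1
    rw [← C.M.mul, map_mul, C.d_eq, C.M.zero, map_one] at h2
    calc ι (E p) = ι (E p) * d * d⁻¹ := by group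
      _ = d := by rw [h2, one_mul, inv_eq_of_mul_eq_one_right (C.sq_A0 C.d_mem)]
  · have h3 := (hqs s hs hne).1
    rw [← h1] at h3
    rw [(yPt_spec C.M.lt).2.2.2.2 _ hp0 (canZ_lt C.M.lt (xor_lt hplt hd))] at h3
    exact Bool.false_ne_true h3

/-! ### the permutations of the points -/

/-- the points as a type -/
abbrev Ctx.Pts (C : Ctx e hF h τ δ c E ι d) : Type z := {x : X // C.IsPt x}

/-- the permutation of an element of the normaliser -/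
def Ctx.perm (C : Ctx e hF h τ δ c E ι d) : ↥C.N →* Equiv.Perm C.Pts where
  toFun n :=
    { toFun := fun x => ⟨n.1 * x.1 * n.1⁻¹, C.pt_conj n.2 x.2⟩
      invFun := fun x => ⟨n.1⁻¹ * x.1 * n.1, by simpa using C.pt_conj (inv_mem n.2) x.2⟩
      left_inv := fun x => Subtype.ext (by group)
      right_inv := fun x => Subtype.ext (by group) }
  map_one' := Equiv.ext fun x => Subtype.ext (by simp)
  map_mul' a b := Equiv.ext fun x => Subtype.ext (by simp [mul_assoc])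

theorem Ctx.perm_apply (C : Ctx e hF h τ δ c E ι d) (n : ↥C.N) (x : C.Pts) :
    ((C.perm n x : C.Pts) : X) = n.1 * x.1 * n.1⁻¹ := rfl

end CfsgLib.KnownB.Fi22Double
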