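import Cfsg.Agent.Lib.KnownB.Fi22Double.Plane
import Cfsg.Prelude.Def_Transfer

/-!
Permutations of the points are even; the plane subgroup is the only elementary abelian subgroup of
its order in a Sylow subgroup, and every involution is conjugate into it.
-/

set_option autoImplicit false
set_option maxRecDepth 20000

noncomputable section

namespace CfsgLib.KnownB.Fi22Double

open Matrix CfsgLib.Classical CfsgLib.Classical.Unitary CfsgLib.Spor CfsgLib.MultSU CfsgLib.KnownB.U62Mult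
  CfsgLib.KnownB.U62Thompson
open scoped commutatorElement

universe w z

variable {F : Type} [Field F] {e : QField →+* F} {σ : F →+* F} [Finite F] {hF : Nat.card F = 2 ^ 2}
  {h : UFrob σ 2} {H : Type w} [Group H] [Finite H] {τ : H →* Cfsg.PSU 6 F 2} {δ : H} {c : ℕ} {E : ℕ → H}
  {X : Type z} [Group X] [Finite X] {ι : H →* X} {d : X}

/-- the stabiliser of the second point in the centraliser -/
def Ctx.M2 (C : Ctx e hF h τ δ c E ι d) : Subgroup H :=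
  (C.N ⊓ Subgroup.centralizer ({ι (E (yPt c))} : Set X)).comap ι

theorem Ctx.mem_M2 (C : Ctx e hF h τ δ c E ι d) {k : H} :
    k ∈ C.M2 ↔ ι k ∈ C.N ∧ ι k * ι (E (yPt c)) = ι (E (yPt c)) * ι k := by
  rw [Ctx.M2, Subgroup.mem_comap, Subgroup.mem_inf, Subgroup.mem_centralizer_singleton_iff]

theorem Ctx.chain_M2 (C : Ctx e hF h τ δ c E ι d) {g : List ℕ} (hg : g ∈ stabChains) {k : H}
    (hk : τ k = cls (gW e hF h (chainW g))) : k ∈ C.M2 := by
  refine C.mem_M2.2 ⟨C.lift_N (stab_lt hg).1 hk, ?_⟩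
  have h1 := C.M.cov.chain (stab_lt hg).1 hk (yPt c)
  have h2 : E (chainV g (yPt c)) = E (yPt c) := by
    rw [← C.M.can, (yPt_spec C.M.lt).2.1 g hg]
  rw [← map_mul, ← map_mul]
  exact congrArg ι (mul_inv_eq_iff_eq_mul.1 (h1.trans h2))

theorem Ctx.E_M2 (C : Ctx e hF h τ δ c E ι d) {m : ℕ} (hm : m < 2048) : E m ∈ C.M2 := by
  have hy := (pts_spec C.M.lt (yPt_spec C.M.lt).1).1
  exact C.mem_M2.2 ⟨C.A0_le_N (C.E_mem hm), C.comm_A0 (C.E_mem hm) (C.E_mem hy)⟩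

theorem Ctx.ker_M2 (C : Ctx e hF h τ δ c E ι d) {k : H} (hk : τ k = 1) : k ∈ C.M2 := by
  rcases (C.M.ker k).1 hk with r | r
  · rw [r]; exact one_mem _
  · have h1 := C.E_M2 (zOf_pos C.M.lt).2.2.1
    have h2 := C.M.d_eq
    exact (h2.trans r.symm) ▸ h1

theorem Ctx.S_le_M2 (C : Ctx e hF h τ δ c E ι d) : C.M.S ≤ C.M2 := fun _ hx =>
  C.M.cov.syl_mem (M2 := C.M2) (R := C.M2)
    (fun a ha b hb => by rw [commutatorElement_def]; exact mul_mem (mul_mem (mul_mem ha hb) (inv_mem ha)) (inv_mem hb))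
    (fun _ hg _ hk => C.chain_M2 hg hk) (fun _ hm => C.E_M2 hm) (fun _ hk => C.ker_M2 hk) hx

/-- the sign of the permutation of the points -/
def Ctx.sgn (C : Ctx e hF h τ δ c E ι d) [Fintype C.Pts] [DecidableEq C.Pts] : ↥C.N →* ℤˣ :=
  Equiv.Perm.sign.comp C.perm

/-- Permutations of the points are even. -/
theorem Ctx.sgn_one (C : Ctx e hF h τ δ c E ι d) [Fintype C.Pts] [DecidableEq C.Pts] (n : ↥C.N) :
    C.sgn n = 1 := by
  obtain ⟨ψ, hψ⟩ : ∃ ψ : ↥(C.N.comap ι) →* ℤˣ, ψ = C.sgn.comp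
      ((ι.comp (C.N.comap ι).subtype).codRestrict C.N fun x => x.2) := ⟨_, rfl⟩
  have hψa : ∀ (k : H) (hk : ι k ∈ C.N), ψ ⟨k, hk⟩ = C.sgn ⟨ι k, hk⟩ := fun k hk => by rw [hψ]; rfl
  obtain ⟨R, hR⟩ : ∃ R : Subgroup H, R = ψ.ker.map (C.N.comap ι).subtype := ⟨_, rfl⟩
  have hRm : ∀ k, k ∈ R ↔ ∃ hk : ι k ∈ C.N, C.sgn ⟨ι k, hk⟩ = 1 := fun k => by
    rw [hR]
    constructor
    · rintro ⟨⟨a, ha⟩, h1, rfl⟩
      exact ⟨ha, (hψa a ha).symm.trans h1⟩
    · rintro ⟨hk, h1⟩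
      exact ⟨⟨k, hk⟩, (hψa k hk).trans h1, rfl⟩
  have hcomm : ∀ a ∈ C.M2, ∀ b ∈ C.M2, ⁅a, b⁆ ∈ R := fun a ha b hb => by
    obtain ⟨ha', -⟩ := C.mem_M2.1 ha
    obtain ⟨hb', -⟩ := C.mem_M2.1 hb
    have hab : (⁅a, b⁆ : H) ∈ C.N.comap ι := by
      rw [commutatorElement_def]
      exact mul_mem (mul_mem (mul_mem ha' hb') (inv_mem ha')) (inv_mem hb')
    rw [hRm]
    refine ⟨hab, ?_⟩
    rw [← hψa _ hab, show (⟨⁅a, b⁆, hab⟩ : ↥(C.N.comap ι)) = ⁅(⟨a, ha'⟩ : ↥(C.N.comap ι)), ⟨b, hb'⟩⁆ from rfl,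
      map_commutatorElement, commutatorElement_eq_one_iff_mul_comm, mul_comm]
  have hker : ∀ k, τ k = 1 → k ∈ R := fun k hk => by
    obtain ⟨hk', -⟩ := C.mem_M2.1 (C.ker_M2 hk)
    refine (hRm k).2 ⟨hk', ?_⟩
    have hp : C.perm ⟨ι k, hk'⟩ = 1 := Equiv.ext fun x => Subtype.ext (by
      rw [C.perm_apply]
      show ι k * x.1 * (ι k)⁻¹ = x.1
      obtain ⟨m, hm, -, hx⟩ := C.mem_A0.1 x.2.1
      rw [hx, ← map_inv, ← map_mul, ← map_mul, C.M.cov.cen k hk, mul_inv_cancel_right])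
    show Equiv.Perm.sign (C.perm _) = 1
    rw [hp, map_one]
  have hSR : ∀ k ∈ C.M.S, k ∈ R := fun k hk =>
    C.M.cov.syl_mem hcomm (fun _ hg _ hk => C.chain_M2 hg hk) (fun _ hm => C.E_M2 hm) hker hk
  have hSN : C.M.S ≤ C.N.comap ι := fun k hk => (C.mem_M2.1 (C.S_le_M2 hk)).1
  have hone : ∀ (k : H) (hk : ι k ∈ C.N), C.sgn ⟨ι k, hk⟩ = 1 := fun k hk => by
    rw [← hψa]
    refine char_eq_one ψ (S := C.M.S.subgroupOf (C.N.comap ι)) (fun x hx => ?_) (fun hd => C.M.index_S ?_) _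
    · obtain ⟨hx', h1⟩ := (hRm _).1 (hSR _ hx)
      exact (hψa _ hx').trans h1
    · rw [← Subgroup.relIndex_mul_index hSN]
      exact hd.trans (Dvd.intro _ rfl)
  have hwd : ∀ a b : ↥C.N, a.1 * d * a.1⁻¹ = b.1 * d * b.1⁻¹ → C.sgn a = C.sgn b := fun a b hab => by
    obtain ⟨k, hk⟩ := C.mem_range (x := (b⁻¹ * a : ↥C.N).1) (by
      show b.1⁻¹ * a.1 * d * (b.1⁻¹ * a.1)⁻¹ = d
      rw [show b.1⁻¹ * a.1 * d * (b.1⁻¹ * a.1)⁻¹ = b.1⁻¹ * (a.1 * d * a.1⁻¹) * b.1 by group, hab]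
      group)
    have h1 := hone k (hk ▸ (b⁻¹ * a : ↥C.N).2)
    rw [show (⟨ι k, hk ▸ (b⁻¹ * a : ↥C.N).2⟩ : ↥C.N) = b⁻¹ * a from Subtype.ext hk, map_mul, map_inv,
      inv_mul_eq_one] at h1
    exact h1.symm
  have hsame : ∀ (a b : ↥C.N) {p q : ℕ}, p ∈ pts c → q ∈ pts c → a.1 * d * a.1⁻¹ = ι (E p) →
      b.1 * d * b.1⁻¹ = ι (E q) → C.sgn a = C.sgn b := fun a b p q hp hq ha hb => by
    obtain ⟨k, hk, hke⟩ := C.trans21 hp hq
    rw [hwd b (⟨ι k, hk⟩ * a) ?_, map_mul, hone k hk, one_mul]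
    show _ = ι k * a.1 * d * (ι k * a.1)⁻¹
    rw [show ι k * a.1 * d * (ι k * a.1)⁻¹ = ι k * (a.1 * d * a.1⁻¹) * (ι k)⁻¹ by group, ha, hb, ← map_inv,
      ← map_mul, ← map_mul, hke]
  obtain ⟨hy, -, ⟨p0, hp0, -⟩, hlen, -⟩ := yPt_spec C.M.lt
  obtain ⟨a, haN, ha⟩ := C.to_pt (C.pt_iff.2 (Or.inr ⟨p0, hp0, rfl⟩))
  have hzp : C.IsPt (a⁻¹ * d * a) := by simpa using C.pt_conj (inv_mem haN) C.d_pt
  obtain ⟨p1, hp1, hp1z⟩ : ∃ p ∈ pts c, ι (E p) ≠ a⁻¹ * d * a := by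
    by_contra hno
    push Not at hno
    have hsub : ∀ p ∈ pts c, p = p0 := fun p hp => C.pts_inj hp hp0 ((hno p hp).trans (hno p0 hp0).symm)
    have h1 : (pts c).length ≤ 1 := by
      rw [← List.toFinset_card_of_nodup (l := pts c) (List.nodup_range.filter _)]
      exact Finset.card_le_one.2 fun u hu v hv => by
        rw [hsub u (List.mem_toFinset.1 hu), hsub v (List.mem_toFinset.1 hv)]
    omega
  obtain ⟨b, hbN, hb⟩ := C.to_pt (C.pt_iff.2 (Or.inr ⟨p1, hp1, rfl⟩))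
  have hab : (⟨a * b, mul_mem haN hbN⟩ : ↥C.N) = ⟨a, haN⟩ * ⟨b, hbN⟩ := rfl
  rcases C.pt_iff.1 (C.pt_conj (mul_mem haN hbN) C.d_pt) with r | ⟨q, hq, hqe⟩
  · refine absurd ?_ hp1z
    calc ι (E p1) = b * d * b⁻¹ := hb.symm
      _ = a⁻¹ * (a * b * d * (a * b)⁻¹) * a := by group
      _ = a⁻¹ * d * a := by rw [r]
  have h1 := hsame ⟨a * b, mul_mem haN hbN⟩ ⟨a, haN⟩ hq hp0 hqe ha
  have h2 := hsame ⟨b, hbN⟩ ⟨a, haN⟩ hp1 hp0 hb ha
  rw [hab, map_mul, h2, Int.units_mul_self] at h1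
  rcases C.pt_iff.1 (C.pt_conj n.2 C.d_pt) with r | ⟨m, hm, hme⟩
  · rw [hwd n 1 (by simpa using r), map_one]
  · rw [hsame n ⟨a, haN⟩ hm hp0 hme ha, ← h1]

theorem Ctx.card_pts (C : Ctx e hF h τ δ c E ι d) : Nat.card C.Pts = 22 :=
  conj_count C.M C.as C.wc

theorem sign_fpf {α : Type*} [Fintype α] [DecidableEq α] {f : Equiv.Perm α} (h2 : f ^ 2 = 1)
    (hf : ∀ x, f x ≠ x) (hc : Fintype.card α = 22) : Equiv.Perm.sign f = -1 := by
  haveI := Fact.mk Nat.prime_two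
  rw [Equiv.Perm.sign_of_cycleType_eq_replicate (by norm_num : 0 < 2) (Equiv.Perm.cycleType_of_pow_prime_eq_one h2),
    if_neg (by decide : ¬ Odd 2), hc, show Fintype.card (Function.fixedPoints f) = 0 from
      Fintype.card_eq_zero_iff.2 ⟨fun x => hf x.1 x.2⟩]
  decide

/-- An element of order two modulo the plane subgroup fixes a point. -/
theorem Ctx.exists_fixed (C : Ctx e hF h τ δ c E ι d) {t : X} (ht : t ∈ C.N) (ht2 : t * t = 1) :
    ∃ x, C.IsPt x ∧ t * x = x * t := by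
  classical
  haveI : Fintype C.Pts := Fintype.ofFinite _
  by_contra hno
  push Not at hno
  have h1 : C.sgn ⟨t, ht⟩ = 1 := C.sgn_one ⟨t, ht⟩
  have h2 := sign_fpf (f := C.perm ⟨t, ht⟩) (by rw [pow_two, ← map_mul, show (⟨t, ht⟩ : ↥C.N) * ⟨t, ht⟩ = 1 from
      Subtype.ext ht2, map_one]) (fun x hx => hno x.1 x.2 (mul_inv_eq_iff_eq_mul.1 (congrArg Subtype.val hx)))
    (by rw [← Nat.card_eq_fintype_card, C.card_pts])
  rw [show Equiv.Perm.sign (C.perm ⟨t, ht⟩) = 1 from h1] at h2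
  exact absurd h2 (by decide)

omit [Finite H] [Finite X] in
theorem elem_conj {B : Subgroup X} (hel : Cfsg.IsElementaryAbelian 2 B) (g : X) :
    Cfsg.IsElementaryAbelian 2 (B.map (MulAut.conj g).toMonoidHom) := by
  refine ⟨⟨⟨?_⟩⟩, ?_⟩
  · rintro ⟨_, x, hx, rfl⟩ ⟨_, y, hy, rfl⟩
    refine Subtype.ext ?_
    show _ * _ = _ * _
    rw [← map_mul, ← map_mul]
    exact congrArg _ (congrArg Subtype.val (hel.1.is_comm.comm ⟨x, hx⟩ ⟨y, hy⟩))
  · rintro _ ⟨x, hx, rfl⟩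
    rw [← map_pow, hel.2 x hx, map_one]

omit [Finite H] [Finite X] in
theorem elem_iff {B : Subgroup X} : Cfsg.IsElementaryAbelian 2 B ↔
    (∀ a ∈ B, ∀ b ∈ B, a * b = b * a) ∧ ∀ a ∈ B, a ^ 2 = 1 := by
  constructor
  · exact fun h => ⟨fun a ha b hb => congrArg Subtype.val (h.1.is_comm.comm ⟨a, ha⟩ ⟨b, hb⟩), h.2⟩
  · exact fun h => ⟨⟨⟨fun a b => Subtype.ext (h.1 a.1 a.2 b.1 b.2)⟩⟩, h.2⟩

/-- Uniqueness inside the centraliser of a point. -/
theorem Ctx.unique_fix (C : Ctx e hF h τ δ c E ι d) {B : Subgroup X} {x : X} (hx : C.IsPt x) (hBN : B ≤ C.N)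
    (hBx : ∀ b ∈ B, b * x = x * b) (hel : Cfsg.IsElementaryAbelian 2 B) (hcard : 1024 ≤ Nat.card B) :
    B = C.A0 := by
  classical
  haveI := Fact.mk Nat.prime_two
  obtain ⟨n, hn, hnx⟩ := C.to_pt hx
  obtain ⟨γ, hγ⟩ : ∃ γ : X →* X, γ = (MulAut.conj n⁻¹).toMonoidHom := ⟨_, rfl⟩
  have hγa : ∀ a, γ a = n⁻¹ * a * n := fun a => by rw [hγ]; simp
  have hγi : Function.Injective γ := by rw [hγ]; exact (MulAut.conj n⁻¹).injective
  obtain ⟨B', hB'⟩ : ∃ B', B' = B.map γ := ⟨_, rfl⟩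
  have hB'r : ∀ b ∈ B', b ∈ C.N ∧ b ∈ ι.range := by
    intro b hb
    rw [hB'] at hb
    obtain ⟨a, ha, rfl⟩ := hb
    rw [hγa]
    refine ⟨mul_mem (mul_mem (inv_mem hn) (hBN ha)) hn, (C.as.range _).2 ?_⟩
    have h1 := hBx a ha
    rw [← hnx] at h1
    calc n⁻¹ * a * n * d = n⁻¹ * (a * (n * d * n⁻¹)) * n := by group
      _ = d * (n⁻¹ * a * n) := by rw [h1]; group
  obtain ⟨B2, hB2⟩ : ∃ B2 : Subgroup H, B2 = B'.comap ι := ⟨_, rfl⟩
  have hmap : B2.map ι = B' := by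
    rw [hB2, Subgroup.map_comap_eq_self fun b hb => (hB'r b hb).2]
  have hB2c : 1024 ≤ Nat.card B2 := by
    rwa [← Subgroup.card_map_of_injective (K := B2) (f := ι) C.as.inj, hmap, hB', Subgroup.card_map_of_injective hγi]
  obtain ⟨hc', hs'⟩ := elem_iff.1 (show Cfsg.IsElementaryAbelian 2 B' by
    rw [hB', hγ]; exact elem_conj hel n⁻¹)
  obtain ⟨NH, hNH⟩ : ∃ NH, NH = C.N.comap ι := ⟨_, rfl⟩
  have hSN : C.M.S ≤ NH := fun k hk => hNH ▸ (C.mem_M2.1 (C.S_le_M2 hk)).1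
  have hBNH : B2 ≤ NH := fun b hb => by
    rw [hNH, Subgroup.mem_comap]; exact (hB'r _ (hB2 ▸ hb : b ∈ B'.comap ι)).1
  obtain ⟨P, hP⟩ : ∃ P : Sylow 2 ↥NH, (P : Subgroup ↥NH) = C.M.S.subgroupOf NH :=
    ⟨((C.M.isPGroup_S.comap_of_injective _ (Subgroup.subtype_injective NH)).toSylow (p := 2) fun hd =>
      C.M.index_S (by rw [← Subgroup.relIndex_mul_index hSN]; exact hd.trans (Dvd.intro _ rfl))), rfl⟩
  have hs2 : ∀ b ∈ B2, b ^ 2 = 1 := fun b hb => C.as.inj (by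
    rw [map_pow, map_one]; exact hs' _ (hB2 ▸ hb : b ∈ B'.comap ι))
  obtain ⟨Q, hQ⟩ := (show IsPGroup 2 ↥(B2.subgroupOf NH) from fun x => ⟨1, Subtype.ext (Subtype.ext (by
    simpa using hs2 _ x.2))⟩).exists_le_sylow
  obtain ⟨a, ha⟩ := MulAction.exists_smul_eq ↥NH Q P
  have hmem : ∀ b ∈ B2, a.1 * b * a.1⁻¹ ∈ C.M.S := fun b hb => by
    have h1 : a * ⟨b, hBNH hb⟩ * a⁻¹ ∈ ((a • Q : Sylow 2 ↥NH) : Subgroup ↥NH) :=
      ⟨⟨b, hBNH hb⟩, hQ hb, rfl⟩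
    rw [ha, hP] at h1
    exact h1
  have hA := C.M.unique (B := B2.map (MulAut.conj a.1).toMonoidHom)
    (by rintro _ ⟨b, hb, rfl⟩; exact hmem b hb)
    (elem_conj (elem_iff.2 ⟨fun u hu v hv => C.as.inj (by
      rw [map_mul, map_mul]; exact hc' _ (hB2 ▸ hu : u ∈ B'.comap ι) _ (hB2 ▸ hv : v ∈ B'.comap ι)), hs2⟩) a.1)
    (by rwa [Subgroup.card_map_of_injective (MulAut.conj a.1).injective])
  have haN : ι a.1 ∈ C.N := (hNH ▸ a.2 : a.1 ∈ C.N.comap ι)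
  refine Subgroup.eq_of_le_of_card_ge (fun b hb => ?_) (C.card_A0.trans_le hcard)
  obtain ⟨b2, hb2, hbe⟩ : γ b ∈ B2.map ι := hmap ▸ hB' ▸ ⟨b, hb, rfl⟩
  have h1 : ι a.1 * γ b * (ι a.1)⁻¹ ∈ C.A0 := by
    rw [← hbe, ← map_inv, ← map_mul, ← map_mul]
    exact Subgroup.mem_map_of_mem ι (hA ▸ ⟨b2, hb2, rfl⟩)
  have h2 := C.conj_mem (mul_mem hn (inv_mem haN)) h1
  rw [hγa] at h2
  convert h2 using 1
  group

/-- A plane subgroup is the only elementary abelian subgroup of its order in the normaliser. -/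
theorem Ctx.unique (C : Ctx e hF h τ δ c E ι d) {B : Subgroup X} (hBN : B ≤ C.N)
    (hel : Cfsg.IsElementaryAbelian 2 B) (hcard : 1024 ≤ Nat.card B) : B = C.A0 := by
  classical
  obtain ⟨hcm, hsq⟩ := elem_iff.1 hel
  haveI : Fintype C.Pts := Fintype.ofFinite _
  -- a short orbit
  letI : MulAction ↥B C.Pts := MulAction.compHom _ (C.perm.comp (Subgroup.inclusion hBN))
  have hact : ∀ (b : ↥B) (x : C.Pts), ((b • x : C.Pts) : X) = b.1 * x.1 * b.1⁻¹ := fun b x => rfl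
  obtain ⟨x, hx⟩ : ∃ x : C.Pts, Nat.card (MulAction.orbit ↥B x) ≤ 2 := by
    by_contra hno
    push Not at hno
    haveI : Fintype (MulAction.orbitRel.Quotient ↥B C.Pts) := Fintype.ofFinite _
    have hp : IsPGroup 2 ↥B := fun b => ⟨1, Subtype.ext (by simpa using hsq _ b.2)⟩
    haveI := Fact.mk Nat.prime_two
    have h4 : ∀ q : MulAction.orbitRel.Quotient ↥B C.Pts, 4 ∣ Nat.card (MulAction.orbitRel.Quotient.orbit q) := by
      intro q
      rw [MulAction.orbitRel.Quotient.orbit_eq_orbit_out _ Quotient.out_eq']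
      obtain ⟨k, hk⟩ := hp.card_orbit (a := q.out)
      have h3 := hno q.out
      rw [hk] at h3 ⊢
      rcases k with _ | _ | k
      · omega
      · omega
      · exact ⟨2 ^ k, by ring⟩
    have h1 := Nat.card_congr (MulAction.selfEquivSigmaOrbits' ↥B C.Pts)
    rw [Nat.card_sigma, C.card_pts] at h1
    have := h1 ▸ Finset.dvd_sum fun q (_ : q ∈ Finset.univ) => h4 q
    omega
  obtain ⟨B0, hB0⟩ : ∃ B0, B0 = B ⊓ Subgroup.centralizer ({x.1} : Set X) := ⟨_, rfl⟩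
  have hB0m : ∀ b, b ∈ B0 ↔ b ∈ B ∧ b * x.1 = x.1 * b := fun b => by
    rw [hB0, Subgroup.mem_inf, Subgroup.mem_centralizer_singleton_iff]
  by_cases hall : ∀ b ∈ B, b * x.1 = x.1 * b
  · exact C.unique_fix x.2 hBN hall hel hcard
  push Not at hall
  obtain ⟨b, hbB, hbx⟩ := hall
  have hxB : x.1 ∉ B := fun hx' => hbx (hcm _ hbB _ hx')
  have hhalf : Nat.card B ≤ 2 * Nat.card B0 := by
    have h1 : MulAction.stabilizer ↥B x = B0.subgroupOf B := by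
      ext a
      rw [MulAction.mem_stabilizer_iff, Subgroup.mem_subgroupOf, hB0m, Subtype.ext_iff, hact, mul_inv_eq_iff_eq_mul]
      exact ⟨fun ha => ⟨a.2, ha⟩, fun ha => ha.2⟩
    have h2 := Subgroup.index_mul_card (MulAction.stabilizer ↥B x)
    rw [MulAction.index_stabilizer, h1, ← Nat.card_coe_set_eq,
      Nat.card_congr (Subgroup.subgroupOfEquivOfLe (show B0 ≤ B from hB0 ▸ inf_le_left)).toEquiv] at h2
    calc Nat.card B = _ := h2.symm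
      _ ≤ 2 * Nat.card B0 := Nat.mul_le_mul_right _ hx
  obtain ⟨B1, hB1⟩ : ∃ B1, B1 = B0 ⊔ Subgroup.zpowers x.1 := ⟨_, rfl⟩
  have hx1 : x.1 ∈ B1 := hB1 ▸ Subgroup.mem_sup_right (Subgroup.mem_zpowers _)
  have hx2 : x.1 * x.1 = 1 := C.sq_A0 x.2.1
  have hB1e : B1 = Subgroup.closure ((B0 : Set X) ∪ {x.1}) := by
    rw [Subgroup.closure_union, Subgroup.closure_eq, ← Subgroup.zpowers_eq_closure, hB1]
  have hgen : ∀ a ∈ (B0 : Set X) ∪ {x.1}, ∀ a' ∈ (B0 : Set X) ∪ {x.1}, a * a' = a' * a := by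
    rintro a (ha | rfl) a' (ha' | rfl)
    exacts [hcm _ ((hB0m a).1 ha).1 _ ((hB0m a').1 ha').1, ((hB0m a).1 ha).2, ((hB0m a').1 ha').2.symm, rfl]
  have hB1c : ∀ a ∈ B1, ∀ a' ∈ B1, a * a' = a' * a := fun a ha a' ha' => by
    haveI := Subgroup.isMulCommutative_closure hgen
    exact congrArg Subtype.val (mul_comm' (⟨a, hB1e ▸ ha⟩ : ↥(Subgroup.closure ((B0 : Set X) ∪ {x.1})))
      ⟨a', hB1e ▸ ha'⟩)
  have hB1s : ∀ a ∈ B1, a ^ 2 = 1 := by
    intro a ha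
    have hac := ha
    rw [hB1e] at ha
    induction ha using Subgroup.closure_induction with
    | mem a ha =>
      rcases ha with ha | rfl
      · exact hsq _ ((hB0m a).1 ha).1
      · rw [pow_two]; exact hx2
    | one => exact one_pow _
    | mul a a' ha ha' iha iha' =>
      rw [(show Commute a a' from hB1c a (hB1e ▸ ha) a' (hB1e ▸ ha')).mul_pow, iha (hB1e ▸ ha), iha' (hB1e ▸ ha'),
        one_mul]
    | inv a ha iha => rw [inv_pow, iha (hB1e ▸ ha), inv_one]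
  have hB1card : 1024 ≤ Nat.card B1 := by
    have hle : B0 ≤ B1 := hB1 ▸ le_sup_left
    obtain ⟨k, hk⟩ := Subgroup.card_dvd_of_le hle
    rcases Nat.lt_or_ge k 2 with hk2 | hk2
    · exfalso
      have hge : Nat.card B1 ≤ Nat.card B0 := by
        rw [hk]; exact (Nat.mul_le_mul_left _ (Nat.le_of_lt_succ hk2)).trans (mul_one _).le
      exact hxB ((hB0m _).1 (Subgroup.eq_of_le_of_card_ge hle hge ▸ hx1)).1
    · calc 1024 ≤ Nat.card B := hcard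
        _ ≤ Nat.card B0 * 2 := by omega
        _ ≤ Nat.card B0 * k := Nat.mul_le_mul_left _ hk2
        _ = Nat.card B1 := hk.symm
  have hA : B1 = C.A0 := by
    refine C.unique_fix x.2 ?_ (fun a ha => hB1c a ha _ hx1) (elem_iff.2 ⟨hB1c, hB1s⟩) hB1card
    rw [hB1]
    exact sup_le ((hB0 ▸ inf_le_left : B0 ≤ B).trans hBN) ((Subgroup.zpowers_le.2 (C.A0_le_N x.2.1)))
  -- the element would be a transposition of the points
  exfalso
  have hB0A : B0 ≤ C.A0 := hA ▸ hB1 ▸ le_sup_left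
  have hsplit : ∀ a ∈ C.A0, a ∈ B0 ∨ a * x.1 ∈ B0 := by
    intro a ha
    rw [← hA, hB1e] at ha
    induction ha using Subgroup.closure_induction with
    | mem a ha =>
      rcases ha with ha | rfl
      · exact Or.inl ha
      · exact Or.inr (by rw [hx2]; exact one_mem _)
    | one => exact Or.inl (one_mem _)
    | mul a a' ha ha' iha iha' =>
      have hxa : a' * x.1 = x.1 * a' := hB1c _ (hB1e ▸ ha') _ hx1
      rcases iha with r | r <;> rcases iha' with r' | r'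
      · exact Or.inl (mul_mem r r')
      · exact Or.inr (by rw [mul_assoc]; exact mul_mem r r')
      · exact Or.inr (by rw [mul_assoc, hxa, ← mul_assoc]; exact mul_mem r r')
      · left
        have h5 := mul_mem r r'
        rwa [hxa, mul_assoc, ← mul_assoc x.1, hx2, one_mul] at h5
    | inv a ha iha =>
      have : a⁻¹ = a := inv_eq_of_mul_eq_one_right (by rw [← pow_two]; exact hB1s a (hB1e ▸ ha))
      rw [this]; exact iha
  have hbfix : ∀ a ∈ B0, b * a * b⁻¹ = a := fun a ha => by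
    rw [hcm b hbB a ((hB0m a).1 ha).1, mul_inv_cancel_right]
  obtain ⟨y, hy⟩ : ∃ y, y = b * x.1 * b⁻¹ := ⟨_, rfl⟩
  have hyx : y ≠ x.1 := fun r => hbx (mul_inv_eq_iff_eq_mul.1 (hy ▸ r))
  have hyp : C.IsPt y := hy ▸ C.pt_conj (hBN hbB) x.2
  have hbb : b * b = 1 := by rw [← pow_two]; exact hsq b hbB
  have hswap : C.perm ⟨b, hBN hbB⟩ = Equiv.swap x ⟨y, hyp⟩ := by
    refine Equiv.ext fun p => Subtype.ext ?_
    rw [C.perm_apply]
    show b * p.1 * b⁻¹ = _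
    rcases eq_or_ne p x with rfl | hpx
    · rw [Equiv.swap_apply_left]; exact hy.symm
    rcases eq_or_ne p ⟨y, hyp⟩ with rfl | hpy
    · rw [Equiv.swap_apply_right]
      show b * y * b⁻¹ = x.1
      rw [hy, show b * (b * x.1 * b⁻¹) * b⁻¹ = b * b * x.1 * (b * b)⁻¹ by group, hbb]
      group
    rw [Equiv.swap_apply_of_ne_of_ne hpx hpy]
    rcases hsplit p.1 p.2.1 with r | r
    · exact hbfix _ r
    by_contra hmv
    have hpq : x.1 * y = p.1 * (b * p.1 * b⁻¹) := by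
      have h1 := hbfix _ r
      rw [show b * (p.1 * x.1) * b⁻¹ = b * p.1 * b⁻¹ * (b * x.1 * b⁻¹) by group, ← hy] at h1
      rw [show b * p.1 * b⁻¹ = p.1 * x.1 * y by rw [← h1, mul_assoc _ y y, C.sq_A0 hyp.1, mul_one]]
      rw [← mul_assoc, ← mul_assoc, C.sq_A0 p.2.1, one_mul]
    rcases C.pair_unique x.2 hyp p.2 (C.pt_conj (hBN hbB) p.2) (Ne.symm hyx) hpq with e1 | e1
    · exact hpx (Subtype.ext e1)
    · exact hpy (Subtype.ext e1)
  have h1 : C.sgn ⟨b, hBN hbB⟩ = 1 := C.sgn_one ⟨b, hBN hbB⟩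
  have h2 : Equiv.Perm.sign (C.perm ⟨b, hBN hbB⟩) = -1 := by
    rw [hswap, Equiv.Perm.sign_swap fun r => hyx (congrArg Subtype.val r).symm]
  rw [show Equiv.Perm.sign (C.perm ⟨b, hBN hbB⟩) = 1 from h1] at h2
  exact absurd h2 (by decide)

/-- A Sylow subgroup containing the plane subgroup normalises it. -/
theorem Ctx.sylow_le_N (C : Ctx e hF h τ δ c E ι d) {T : Sylow 2 X} (hT : C.A0 ≤ (T : Subgroup X)) :
    (T : Subgroup X) ≤ C.N := by
  haveI := Fact.mk Nat.prime_two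
  haveI : Group.IsNilpotent ↥(T : Subgroup X) := T.isPGroup'.isNilpotent
  obtain ⟨T1, hT1⟩ : ∃ T1 : Subgroup ↥(T : Subgroup X), T1 = C.N.subgroupOf (T : Subgroup X) := ⟨_, rfl⟩
  suffices h1 : T1 = ⊤ from fun t ht => by
    have h2 : (⟨t, ht⟩ : ↥(T : Subgroup X)) ∈ T1 := h1 ▸ Subgroup.mem_top _
    rw [hT1] at h2
    exact h2
  refine normalizerCondition_iff_only_full_group_self_normalizing.1
    Group.normalizerCondition_of_isNilpotent T1 (le_antisymm (fun g hg => ?_) Subgroup.le_normalizer)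
  rw [hT1, Subgroup.mem_subgroupOf]
  rw [hT1, Subgroup.mem_normalizer_iff] at hg
  have hA : Cfsg.IsElementaryAbelian 2 C.A0 :=
    elem_iff.2 ⟨fun _ ha _ hb => C.comm_A0 ha hb, fun _ ha => by rw [pow_two]; exact C.sq_A0 ha⟩
  have h3 := C.unique (B := C.A0.map (MulAut.conj g.1).toMonoidHom) (by
      rintro _ ⟨a, ha, rfl⟩
      have h4 := (hg ⟨a, hT ha⟩).1 (Subgroup.mem_subgroupOf.2 (C.A0_le_N ha))
      exact Subgroup.mem_subgroupOf.1 h4)
    (elem_conj hA _) (by rw [Subgroup.card_map_of_injective (MulAut.conj g.1).injective, C.card_A0])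
  refine C.mem_N fun m hm => ?_
  exact h3 ▸ ⟨_, C.E_mem hm, rfl⟩

/-- Two-subgroups are conjugate into the normaliser. -/
theorem Ctx.into_N (C : Ctx e hF h τ δ c E ι d) {B : Subgroup X} (hB : IsPGroup 2 B) :
    ∃ g : X, B.map (MulAut.conj g).toMonoidHom ≤ C.N := by
  haveI := Fact.mk Nat.prime_two
  have hA : IsPGroup 2 C.A0 := fun a => ⟨1, Subtype.ext (by
    rw [Subgroup.coe_pow, pow_one, pow_two]; exact C.sq_A0 a.2)⟩
  obtain ⟨T, hT⟩ := hA.exists_le_sylow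
  obtain ⟨P, hP⟩ := hB.exists_le_sylow
  obtain ⟨g, hg⟩ := MulAction.exists_smul_eq X P T
  refine ⟨g, le_trans ?_ (C.sylow_le_N hT)⟩
  rw [← hg]
  rintro _ ⟨b, hb, rfl⟩
  exact ⟨b, hP hb, rfl⟩

/-- Large elementary abelian subgroups are conjugate to the plane subgroup. -/
theorem Ctx.unique_conj (C : Ctx e hF h τ δ c E ι d) {B : Subgroup X} (hel : Cfsg.IsElementaryAbelian 2 B)
    (hcard : 1024 ≤ Nat.card B) : ∃ g : X, B.map (MulAut.conj g).toMonoidHom = C.A0 := by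
  obtain ⟨g, hg⟩ := C.into_N (B := B) fun b => ⟨1, Subtype.ext (by simpa using hel.2 _ b.2)⟩
  exact ⟨g, C.unique hg (elem_conj hel g) (by
    rwa [Subgroup.card_map_of_injective (MulAut.conj g).injective])⟩

/-- Every involution is conjugate into the plane subgroup. -/
theorem Ctx.conj_into (C : Ctx e hF h τ δ c E ι d) {t : X} (ht : t * t = 1) :
    ∃ g : X, g * t * g⁻¹ ∈ C.A0 := by
  haveI := Fact.mk Nat.prime_two
  have hB : IsPGroup 2 (Subgroup.zpowers t) := by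
    obtain ⟨k, -, hk⟩ := (Nat.dvd_prime_pow Nat.prime_two).1
      (orderOf_dvd_of_pow_eq_one (show t ^ 2 ^ 1 = 1 by rw [pow_one, pow_two, ht]))
    exact IsPGroup.of_card ((Nat.card_zpowers t).trans hk)
  obtain ⟨g, hg⟩ := C.into_N hB
  have hg' : g * t * g⁻¹ ∈ C.N := hg ⟨t, Subgroup.mem_zpowers t, rfl⟩
  obtain ⟨x, hx, hxc⟩ := C.exists_fixed hg' (by
    rw [show g * t * g⁻¹ * (g * t * g⁻¹) = g * (t * t) * g⁻¹ by group, ht]; group)
  obtain ⟨n, hn, hnx⟩ := C.to_pt hx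
  obtain ⟨s, hs⟩ := C.mem_range (x := n⁻¹ * (g * t * g⁻¹) * n) (by
    rw [show n⁻¹ * (g * t * g⁻¹) * n * d * (n⁻¹ * (g * t * g⁻¹) * n)⁻¹ =
      n⁻¹ * (g * t * g⁻¹ * (n * d * n⁻¹) * (g * t * g⁻¹)⁻¹) * n by group, hnx, hxc, mul_inv_cancel_right, ← hnx]
    group)
  obtain ⟨a, ha⟩ := C.M.conj_A' (x := s) (Or.inl (C.as.inj (by
    rw [map_mul, hs, map_one, show n⁻¹ * (g * t * g⁻¹) * n * (n⁻¹ * (g * t * g⁻¹) * n) =
      n⁻¹ * g * (t * t) * g⁻¹ * n by group, ht]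
    group)))
  refine ⟨ι a * n⁻¹ * g, ?_⟩
  have h1 : ι (a * s * a⁻¹) ∈ C.A0 := Subgroup.mem_map_of_mem ι ha
  rw [map_mul, map_mul, map_inv, hs] at h1
  convert h1 using 1
  group

end CfsgLib.KnownB.Fi22Double
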