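import Cfsg.Agent.Lib.KnownB.Fi22Double.Coord

/-!
The stabiliser of the second point: its Sylow subgroup lies in every normal subgroup with abelian
quotient containing the kernel.
-/

set_option autoImplicit false
set_option maxRecDepth 20000

noncomputable section

namespace CfsgLib.KnownB.Fi22Double

open Matrix CfsgLib.Classical CfsgLib.Classical.Unitary CfsgLib.Spor CfsgLib.MultSU CfsgLib.KnownB.U62Mult
  CfsgLib.KnownB.U62Thompson
open scoped commutatorElement

universe w

variable {F : Type} [Field F] {e : QField →+* F} {σ : F →+* F} [Finite F] {hF : Nat.card F = 2 ^ 2}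
  {h : UFrob σ 2} {K : Type w} [Group K] {τ : K →* Cfsg.PSU 6 F 2} {E : ℕ → K}

theorem gW_reverse : ∀ {w : List ℕ}, isoW w = true → gW e hF h w.reverse = (gW e hF h w)⁻¹
  | [], _ => by rw [List.reverse_nil, gW_nil, inv_one]
  | p :: r, hw => by
    simp only [isoW, List.all_cons, Bool.and_eq_true, Nat.beq_eq] at hw
    rw [List.reverse_cons, gW_append, gW_reverse hw.2, gW_cons, gW_cons, gW_nil, mul_one, _root_.mul_inv_rev,
      inv_eq_of_mul_eq_one_right (tv_sq e hF h (by rw [hw.1]))]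

/-- Conjugation by a chain of generators. -/
theorem Cov.chain (M : Cov e hF h τ E) : ∀ {g : List ℕ}, (∀ i ∈ g, i < 7) → ∀ {x : K},
    τ x = cls (gW e hF h (chainW g)) → ∀ m, x * E m * x⁻¹ = E (chainV g m)
  | [], _, x, hx, m => by
    rw [chainW, gW_nil, map_one] at hx
    rw [M.cen x hx, mul_inv_cancel_right]
    rfl
  | a :: r, hg, x, hx, m => by
    obtain ⟨U, hU⟩ := M.surj (cls (gW e hF h (gWd a)))
    have h1 := M.chain (fun i hi => hg i (List.mem_cons_of_mem _ hi)) (x := U⁻¹ * x) (by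
      rw [map_mul, map_inv, hU, hx, chainW, gW_append, map_mul, inv_mul_cancel_left]) m
    have h2 := M.conj _ _ (actOK_gen (hg a List.mem_cons_self)) U hU (chainV r m)
    show _ = E (selX (genVec.getD a []) (chainV r m))
    rw [← h2, ← h1]
    group

theorem stab_lt {g : List ℕ} (hg : g ∈ stabChains) : (∀ i ∈ g, i < 7) ∧ isoW (chainW g) = true := by
  have h1 := List.all_eq_true.1 chain_iso g hg
  simp only [Bool.and_eq_true, List.all_eq_true, Nat.blt_eq] at h1
  exact ⟨h1.2, h1.1⟩

/-- The plane lies in the subgroup. -/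
theorem Cov.plane_mem (M : Cov e hF h τ E) {M2 R : Subgroup K}
    (hcomm : ∀ a ∈ M2, ∀ b ∈ M2, ⁅a, b⁆ ∈ R)
    (hst : ∀ g ∈ stabChains, ∀ x, τ x = cls (gW e hF h (chainW g)) → x ∈ M2)
    (hE : ∀ m < 2048, E m ∈ M2) {m : ℕ} (hm : m < 2048) : E m ∈ R := by
  have hd : ∀ v ∈ dispV, E v ∈ R := fun v hv => by
    obtain ⟨⟨g, q⟩, hq, rfl⟩ := List.mem_map.1 hv
    have h1 := List.all_eq_true.1 disp_lt _ hq
    simp only [Bool.and_eq_true, List.contains_iff_mem, Nat.blt_eq] at h1
    obtain ⟨x, hx⟩ := M.surj (cls (gW e hF h (chainW g)))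
    have hlt : 2 ^ q < 2048 := by
      calc 2 ^ q < 2 ^ 11 := Nat.pow_lt_pow_right (by norm_num) h1.2
        _ = 2048 := by norm_num
    have h2 := M.chain (stab_lt h1.1).1 hx (2 ^ q)
    show E (2 ^ q ^^^ chainV g (2 ^ q)) ∈ R
    rw [Nat.xor_comm, ← M.mul, ← h2]
    have h3 := hcomm _ (hst g h1.1 x hx) _ (hE _ hlt)
    rwa [commutatorElement_def, M.inv] at h3
  have hsum : ∀ (l : List ℕ) (k : ℕ), (∀ v ∈ l, E v ∈ R) → E (selX l k) ∈ R := by
    intro l
    induction l with
    | nil => intro k _; rw [selX, M.zero]; exact one_mem R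
    | cons a r ih =>
      intro k hl
      have hr := ih (k / 2) fun v hv => hl v (List.mem_cons_of_mem _ hv)
      simp only [selX]
      cases Nat.beq (k % 2) 1
      · exact hr
      · rw [cond_true, show Nat.xor a (selX r (k / 2)) = a ^^^ selX r (k / 2) from rfl, ← M.mul]
        exact mul_mem (hl a List.mem_cons_self) hr
  have h1 := disp_span
  simp only [forceN_eq, List.all_eq_true, List.mem_range, bitsL_testBit, List.mem_map] at h1
  obtain ⟨k, -, hk⟩ := h1 m hm
  rw [← hk]
  exact hsum _ _ hd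

/-- The Sylow subgroup lies in the subgroup. -/
theorem Cov.syl_mem (M : Cov e hF h τ E) {M2 R : Subgroup K}
    (hcomm : ∀ a ∈ M2, ∀ b ∈ M2, ⁅a, b⁆ ∈ R)
    (hst : ∀ g ∈ stabChains, ∀ x, τ x = cls (gW e hF h (chainW g)) → x ∈ M2)
    (hE : ∀ m < 2048, E m ∈ M2) (hker : ∀ x, τ x = 1 → x ∈ R) {x : K}
    (hx : x ∈ ((sylGrp e hF h).map cls).comap τ) : x ∈ R := by
  obtain ⟨g, hg, hgx⟩ := hx
  obtain ⟨m, hm, t, -, rfl⟩ := syl_decomp e hF h hg
  have hlift : ∀ {g : Cfsg.SU 6 F 2} {a : K}, a ∈ R → τ a = cls g → ∀ b, τ b = cls g → b ∈ R := by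
    intro g a ha hag b hb
    have h1 := mul_mem ha (hker (a⁻¹ * b) (by rw [map_mul, map_inv, hag, hb, inv_mul_cancel]))
    rwa [mul_inv_cancel_left] at h1
  have hroot : ∀ w ∈ rootWords, ∀ b, τ b = cls (gW e hF h w) → b ∈ R := by
    intro w hw
    obtain ⟨r, hr, rfl⟩ := List.getElem_of_mem hw
    have hr6 : r < 6 := root_split.2 ▸ hr
    have h1 := List.all_eq_true.1 rel_ok r (List.mem_range.2 hr6)
    simp only [Bool.and_eq_true, List.contains_iff_mem] at h1
    obtain ⟨⟨ha, hb⟩, heq⟩ := h1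
    generalize relT.getD r ([], []) = q at ha hb heq
    obtain ⟨A, hA⟩ := M.surj (cls (gW e hF h (chainW q.1)))
    obtain ⟨B, hB⟩ := M.surj (cls (gW e hF h (chainW q.2)))
    have hw' : gWd r = rootWords[r] := by
      rw [gWd, List.getD_eq_getElem _ _ (by rw [List.length_append]; omega)]
      exact List.getElem_append_left hr
    rw [hw'] at heq
    have hi1 := (stab_lt ha).2
    have hi2 := (stab_lt hb).2
    have he := gW_eq e hF h (List.all_eq_true.1 root_ok.1 _ hw) (w' := chainW q.1 ++ chainW q.2 ++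
      (chainW q.1).reverse ++ (chainW q.2).reverse) (by
        simp only [isoW, List.all_append, List.all_reverse, Bool.and_eq_true] at hi1 hi2 ⊢
        exact ⟨⟨⟨hi1, hi2⟩, hi1⟩, hi2⟩) heq
    rw [gW_append, gW_append, gW_append, gW_reverse hi1, gW_reverse hi2] at he
    refine hlift (hcomm A (hst _ ha A hA) B (hst _ hb B hB)) ?_
    rw [he, map_commutatorElement, hA, hB, commutatorElement_def, map_mul, map_mul, map_mul, map_inv, map_inv]
  have hflat : ∀ (ws : List (List ℕ)), (∀ w ∈ ws, w ∈ rootWords) → ∀ b, τ b = cls (gW e hF h ws.flatten) → b ∈ R := by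
    intro ws
    induction ws with
    | nil => intro _ b hb; rw [List.flatten_nil, gW_nil, map_one] at hb; exact hker b hb
    | cons w r ih =>
      intro hws b hb
      rw [List.flatten_cons, gW_append, map_mul] at hb
      obtain ⟨a, ha⟩ := M.surj (cls (gW e hF h w))
      have h1 := ih (fun v hv => hws v (List.mem_cons_of_mem _ hv)) (a⁻¹ * b) (by
        rw [map_mul, map_inv, ha, hb, inv_mul_cancel_left])
      have h2 := mul_mem (hroot w (hws w List.mem_cons_self) a ha) h1
      rwa [mul_inv_cancel_left] at h2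
  have h1 := hflat (sel rootWords t) (fun w hw => sel_subset _ _ w hw) ((E m)⁻¹ * x) (by
    rw [map_mul, map_inv, M.map, ← hgx, map_mul, inv_mul_cancel_left]
    rfl)
  have h2 := mul_mem (M.plane_mem hcomm hst hE hm) h1
  rwa [mul_inv_cancel_left] at h2

/-- A sign character killing a subgroup of odd index is trivial. -/
theorem char_eq_one {M : Type*} [Group M] [Finite M] (φ : M →* ℤˣ) {S : Subgroup M}
    (hS : ∀ x ∈ S, φ x = 1) (hodd : ¬ 2 ∣ S.index) (x : M) : φ x = 1 := by
  have h1 : φ.ker.index ∣ S.index := Subgroup.index_dvd_of_le fun y hy => MonoidHom.mem_ker.2 (hS y hy)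
  have h2 : φ.ker.index ∣ 2 := by
    rw [Subgroup.index_ker, show (2 : ℕ) = Nat.card ℤˣ by rw [Nat.card_eq_fintype_card]; rfl]
    exact Subgroup.card_subgroup_dvd_card _
  rcases (Nat.dvd_prime Nat.prime_two).1 h2 with r | r
  · exact MonoidHom.mem_ker.1 (Subgroup.index_eq_one.1 r ▸ Subgroup.mem_top x)
  · exact absurd (r ▸ h1) hodd

end CfsgLib.KnownB.Fi22Double
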